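import Cfsg.Agent.JTwoSyl.Std
import Cfsg.Agent.Spor.J2.OrdersSetup

/-!
The Sylow subgroup and the centraliser of a central involution in `J₂`.
-/

set_option autoImplicit false
set_option linter.unusedSectionVars false
set_option linter.style.haveILetI false

namespace Cfsg.Lib.JTwoSyl

open Subgroup Equiv Cfsg.Lib.HallJankoType Cfsg.Lib.J2

theorem lineGroup_data : ∃ (Q : Subgroup lineGroup) (b : Fin 5 → lineGroup)
    (σ : Cz zG →* Perm (Fin 5)) (y : lineGroup), Data zG Q b σ ∧ Outer zG Q y := by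
  obtain ⟨Q, b, σ, H⟩ := exists_hypG
  obtain ⟨y, hy⟩ := H.exists_outer
  exact ⟨Q, b, σ, y, H.data, hy⟩

/-- The isomorphism on centralisers. -/
theorem cz_equiv {A B : Type*} [Group A] [Group B] (e : A ≃* B) (x : A) :
    Nonempty (Cz x ≃* Cz (e x)) :=
  ⟨{ toFun := fun c => ⟨e c, mem_Cz.2 ((mem_Cz.1 c.2).map e.toMonoidHom)⟩
     invFun := fun c => ⟨e.symm c, mem_Cz.2 (by simpa using (mem_Cz.1 c.2).map e.symm.toMonoidHom)⟩
     left_inv := fun c => Subtype.ext (e.symm_apply_apply _)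
     right_inv := fun c => Subtype.ext (e.apply_symm_apply _)
     map_mul' := fun c d => Subtype.ext (map_mul e _ _) }⟩

/-- A Sylow subgroup of `J₂` in coordinates. -/
theorem sylow_model (P : Sylow 2 Cfsg.Spor.J2) :
    ∃ (z : Cfsg.Spor.J2) (a : Fin 4 → Cfsg.Spor.J2) (v w : Cfsg.Spor.J2),
      Model (P : Subgroup Cfsg.Spor.J2) z a v w ∧ orderOf z = 2 ∧ Nonempty (Cz z ≃* Cz zG) := by
  haveI : Fact (Nat.Prime 2) := ⟨Nat.prime_two⟩
  haveI : Finite Cfsg.Spor.J2 := Nat.finite_of_card_ne_zero (by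
    rw [Nat.card_congr j2Equiv.toEquiv, card_lineGroup frameFaithful]; norm_num)
  obtain ⟨Q, b, σ, y, D, hy⟩ := lineGroup_data
  obtain ⟨a, T⟩ := exists_std D
  obtain ⟨S, v, w, -, M⟩ := T.exists_model hy
  have hM := M.map j2Equiv.symm.toMonoidHom (j2Equiv.symm.injective.injOn)
  set S' := S.map j2Equiv.symm.toMonoidHom with hS'
  obtain ⟨R, hR⟩ := (IsPGroup.of_card (p := 2) (n := 7) (hM.card.trans (by norm_num))).exists_le_sylow
  have hRS : (R : Subgroup Cfsg.Spor.J2) = S' := by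
    refine (eq_of_le_of_card_ge hR (le_of_eq ?_)).symm
    rw [R.card_eq_multiplicity, hM.card, Nat.card_congr j2Equiv.toEquiv, card_lineGroup frameFaithful,
      show 604800 = 2 ^ 7 * 4725 by norm_num, Nat.factorization_mul (by norm_num) (by norm_num),
      Finsupp.add_apply, Nat.Prime.factorization_pow Nat.prime_two, Finsupp.single_eq_same,
      Nat.factorization_eq_zero_of_not_dvd (by norm_num)]
    norm_num
  obtain ⟨g, hg⟩ := MulAction.exists_smul_eq Cfsg.Spor.J2 R P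
  have hM' := hM.map (MulAut.conj g).toMonoidHom ((MulAut.conj g).injective.injOn)
  have hP : (P : Subgroup Cfsg.Spor.J2) = S'.map (MulAut.conj g).toMonoidHom := by
    rw [← hg, Sylow.coe_subgroup_smul, hRS]; rfl
  rw [← hP] at hM'
  refine ⟨_, _, _, _, hM', ?_, ?_⟩
  · show orderOf (MulAut.conj g (j2Equiv.symm zG)) = 2
    rw [MulEquiv.orderOf_eq, MulEquiv.orderOf_eq, zG_order]
  · obtain ⟨e⟩ := cz_equiv (j2Equiv.symm.trans (MulAut.conj g)) zG
    exact ⟨e.symm⟩

end Cfsg.Lib.JTwoSyl
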