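import Cfsg.Agent.JTwoSyl.Normal
import Cfsg.Agent.JTwoSyl.JTwo

/-!
The centraliser of a central involution in a group with Sylow subgroups of the type of `J₂`.
-/

set_option autoImplicit false
set_option linter.unusedSectionVars false
set_option linter.style.haveILetI false
set_option synthInstance.maxSize 4096
set_option synthInstance.maxHeartbeats 400000

namespace Cfsg.Lib.JTwoSyl

open Subgroup Cfsg.Lib.HallJankoType

/-- Pulling back along an injective map. -/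
theorem Model.comap {G K : Type*} [Group G] [Group K] {S : Subgroup G} {z : G} {a : Fin 4 → G} {v w : G}
    (M : Model S z a v w) (f : K →* G) (hf : Function.Injective f) (hS : S ≤ f.range)
    {z' : K} {a' : Fin 4 → K} {v' w' : K} (hz : f z' = z) (ha : ∀ i, f (a' i) = a i) (hv : f v' = v) (hw : f w' = w) :
    Model (S.comap f) z' a' v' w' := by
  have hb : ∀ g b, f (bp g b) = bp (f g) b := fun g b => by cases b <;> simp [bp]
  have hev : ∀ x, f (ev7 z' a' v' w' x) = ev7 z a v w x := by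
    rintro ⟨⟨s, i, j, k, l⟩, p, r⟩
    simp [ev7, ev5, hb, hz, ha, hv, hw]
  refine ⟨⟨hf ?_, fun i => hf ?_, fun i => hf ?_, fun i j hij => hf ?_⟩, hf ?_, hf ?_, hf ?_, hf ?_, hf ?_,
    fun i => hf ?_, fun i => hf ?_, fun x => by show f _ ∈ S; rw [hev]; exact M.mem x, ?_, ?_⟩
  · rw [map_mul, map_one, hz]; exact M.cliff.zz
  · rw [map_mul, map_mul, hz, ha]; exact M.cliff.za i
  · rw [map_mul, map_one, ha]; exact M.cliff.aa i
  · rw [map_mul, map_mul, map_mul, hz, ha, ha]; exact M.cliff.anti i j hij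
  · rw [map_mul, map_mul, hz, hv]; exact M.zv
  · rw [map_mul, map_mul, hz, hw]; exact M.zw
  · rw [map_mul, map_one, hv]; exact M.vv
  · rw [map_mul, map_one, hw]; exact M.ww
  · rw [map_mul, map_mul, hv, hw]; exact M.vw
  · rw [map_mul, map_mul, map_inv, hv, ha, ha]; exact M.va i
  · rw [map_mul, map_mul, map_inv, hw, ha, ha]; exact M.wa i
  · intro s hs
    obtain ⟨x, hx⟩ := M.surj (f s) hs
    exact ⟨x, hf (by rw [hev, hx])⟩
  · have := card_map_of_injective (K := S.comap f) hf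
    rw [map_comap_eq_self hS, M.card] at this
    exact this.symm

theorem map_ev7 {G K : Type*} [Group G] [Group K] (f : K →* G) (z : K) (a : Fin 4 → K) (v w : K) (x : SC) :
    f (ev7 z a v w x) = ev7 (f z) (f ∘ a) (f v) (f w) x := by
  have hb : ∀ g b, f (bp g b) = bp (f g) b := fun g b => by cases b <;> simp [bp]
  obtain ⟨⟨s, i, j, k, l⟩, p, r⟩ := x
  simp [ev7, ev5, hb]

theorem Model.mem_a {G : Type*} [Group G] {S : Subgroup G} {z : G} {a : Fin 4 → G} {v w : G}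
    (M : Model S z a v w) (i : Fin 4) : a i ∈ S := by
  have h := M.mem (ac i.castSucc)
  rwa [M.ev_ac, M.cliff.ev_a] at h

universe u

variable {G : Type u} [Group G] [Finite G]

/-- The centraliser modulo its core. -/
theorem main (S : Sylow 2 G) (P : Sylow 2 Cfsg.Spor.J2)
    (hS : Nonempty (↥(S : Subgroup G) ≃* ↥(P : Subgroup Cfsg.Spor.J2)))
    (h2 : ∀ H : Subgroup G, H.Normal → H.index ≠ 2)
    (z : G) (hz : orderOf z = 2) (hzS : z ∈ (S : Subgroup G)) (hzc : ∀ s ∈ (S : Subgroup G), s * z = z * s) :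
    ∃ (z' : Cfsg.Spor.J2) (Q : Sylow 2 Cfsg.Spor.J2), orderOf z' = 2 ∧ z' ∈ (Q : Subgroup Cfsg.Spor.J2) ∧
        (∀ s ∈ (Q : Subgroup Cfsg.Spor.J2), s * z' = z' * s) ∧
        Nonempty ((↥(centralizer ({z} : Set G)) ⧸ Cfsg.oddCore ↥(centralizer ({z} : Set G))) ≃*
          ↥(centralizer ({z'} : Set Cfsg.Spor.J2))) := by
  classical
  haveI : Fact (Nat.Prime 2) := ⟨Nat.prime_two⟩
  obtain ⟨eS⟩ := hS
  obtain ⟨z₀, a₀, v₀, w₀, M₀, hz₀, ⟨eJ⟩⟩ := sylow_model P
  -- move the coordinates to `S`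
  have hv₀ : v₀ ∈ (P : Subgroup Cfsg.Spor.J2) := (congrArg (fun x => x ∈ (P : Subgroup Cfsg.Spor.J2)) M₀.ev_vc).mp (M₀.mem vc)
  have hw₀ : w₀ ∈ (P : Subgroup Cfsg.Spor.J2) := (congrArg (fun x => x ∈ (P : Subgroup Cfsg.Spor.J2)) M₀.ev_wc).mp (M₀.mem wc)
  have MP := M₀.comap (P : Subgroup Cfsg.Spor.J2).subtype (Subgroup.subtype_injective _)
    (le_of_eq (range_subtype _).symm) (z' := ⟨z₀, M₀.z_mem⟩) (a' := fun i => ⟨a₀ i, M₀.mem_a i⟩)
    (v' := ⟨v₀, hv₀⟩) (w' := ⟨w₀, hw₀⟩) rfl (fun _ => rfl) rfl rfl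
  have MS := MP.map ((S : Subgroup G).subtype.comp eS.symm.toMonoidHom)
    (((Subgroup.subtype_injective _).comp eS.symm.injective).injOn)
  have hmap : ((P : Subgroup Cfsg.Spor.J2).comap (P : Subgroup Cfsg.Spor.J2).subtype).map
      ((S : Subgroup G).subtype.comp eS.symm.toMonoidHom) = (S : Subgroup G) := by
    rw [comap_subtype, subgroupOf_self, ← Subgroup.map_map, Subgroup.map_top_of_surjective _ eS.symm.surjective,
      ← MonoidHom.range_eq_map, range_subtype]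
  rw [hmap] at MS
  obtain ⟨zM, aM, vM, wM, M⟩ : ∃ zM aM vM wM, Model (S : Subgroup G) zM aM vM wM := ⟨_, _, _, _, MS⟩
  have hz1 : z ≠ 1 := fun h => by rw [h, orderOf_one] at hz; omega
  obtain rfl : z = zM := M.eq_z_of_central hzS (fun s hs => (hzc s hs).symm) hz1
  obtain ⟨h, hhz, hh⟩ := exists_mover M h2
  -- to the centraliser
  set C := centralizer ({z} : Set G) with hC
  have hSC : (S : Subgroup G) ≤ C := fun s hs => mem_centralizer_singleton_iff.2 (hzc s hs)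
  have hmv : vM ∈ C := hSC ((congrArg (fun x => x ∈ (S : Subgroup G)) M.ev_vc).mp (M.mem vc))
  have hmw : wM ∈ C := hSC ((congrArg (fun x => x ∈ (S : Subgroup G)) M.ev_wc).mp (M.mem wc))
  have MC := M.comap C.subtype (Subgroup.subtype_injective _) (hSC.trans (le_of_eq (range_subtype _).symm))
    (z' := ⟨z, hSC hzS⟩) (a' := fun i => ⟨aM i, hSC (M.mem_a i)⟩) (v' := ⟨vM, hmv⟩) (w' := ⟨wM, hmw⟩)
    rfl (fun _ => rfl) rfl rfl
  set O := Cfsg.oddCore ↥C with hO
  set π := QuotientGroup.mk' O with hπ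
  have hπs : Function.Surjective π := QuotientGroup.mk'_surjective _
  have hOodd : Odd (Nat.card O) := Cfsg.Lib.AltEightType.odd_oddCore _
  have hinj : Set.InjOn π (((S : Subgroup G).comap C.subtype : Subgroup ↥C) : Set ↥C) := by
    intro x hx y hy hxy
    have h1 : x⁻¹ * y ∈ O := QuotientGroup.eq.1 hxy
    have h2' : x⁻¹ * y ∈ (S : Subgroup G).comap C.subtype := mul_mem (inv_mem hx) hy
    obtain ⟨i, hi⟩ := IsPGroup.iff_orderOf.1 S.2 ⟨((x⁻¹ * y : ↥C) : G), h2'⟩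
    have hi' : orderOf (x⁻¹ * y) = 2 ^ i := by
      rw [← hi, ← Subgroup.orderOf_coe (x⁻¹ * y)]
      exact Subgroup.orderOf_coe ⟨((x⁻¹ * y : ↥C) : G), h2'⟩
    exact inv_mul_eq_one.1 (orderOf_eq_one_iff.1 (Nat.eq_one_of_dvd_coprimes
      (Nat.Coprime.pow_left i (Nat.coprime_two_left.2 hOodd)) (dvd_of_eq hi') (Subgroup.orderOf_dvd_natCard _ h1)))
  have M1 := MC.map π hinj
  set S₁ := (S.subtype hSC).mapSurjective hπs with hS₁
  have hS₁coe : (S₁ : Subgroup (↥C ⧸ O)) = ((S : Subgroup G).comap C.subtype).map π := by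
    rw [hS₁, Sylow.coe_mapSurjective, Sylow.coe_subtype]; rfl
  rw [← hS₁coe] at M1
  have hev : ∀ X : SC, ev7 (π ⟨z, hSC hzS⟩) (π ∘ fun i => ⟨aM i, hSC (M.mem_a i)⟩) (π ⟨vM, hmv⟩) (π ⟨wM, hmw⟩) X =
      π ⟨ev7 z aM vM wM X, hSC (M.mem X)⟩ := fun X => by
    rw [← map_ev7 π]
    exact congrArg π (Subtype.ext (map_ev7 C.subtype ⟨z, hSC hzS⟩ (fun i => ⟨aM i, hSC (M.mem_a i)⟩) ⟨vM, hmv⟩ ⟨wM, hmw⟩ X))
  have L : Loc S₁ (π ⟨z, hSC hzS⟩) (π ∘ fun i => ⟨aM i, hSC (M.mem_a i)⟩) (π ⟨vM, hmv⟩) (π ⟨wM, hmw⟩) := by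
    refine ⟨M1, fun g => ?_, fun K hKn hK => ?_, ⟨π ⟨h, mem_centralizer_singleton_iff.2 hhz.eq⟩, ?_⟩⟩
    · obtain ⟨c, rfl⟩ := hπs g
      exact (show Commute c (⟨z, hSC hzS⟩ : ↥C) from Subtype.ext (mem_centralizer_singleton_iff.1 c.2)).map π
    · haveI := hKn
      have hle : K.comap π ≤ O := by
        refine Cfsg.Lib.Components.le_pPrimeCore (Nat.coprime_two_right.2 ?_)
        have hker : π.ker = O := QuotientGroup.ker_mk' _
        have hOle : O ≤ K.comap π := by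
          exact fun o ho => mem_comap.2 (by rw [show π o = 1 from (QuotientGroup.eq_one_iff o).2 ho]; exact one_mem K)
        have h1 := relIndex_mul_relIndex (⊥ : Subgroup ↥C) O (K.comap π) bot_le hOle
        rw [relIndex_bot_left, relIndex_bot_left] at h1
        have h3 : O.relIndex (K.comap π) = Nat.card K := by
          refine (congrArg (fun U => U.relIndex (K.comap π)) (hker.symm.trans (MonoidHom.comap_bot π).symm)).trans ?_
          rw [relIndex_comap, map_comap_eq_self_of_surjective hπs, relIndex_bot_left]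
        rw [← h1, h3]
        exact hOodd.mul hK
      refine (eq_bot_iff_forall _).2 fun y hy => ?_
      obtain ⟨x, rfl⟩ := hπs y
      exact (QuotientGroup.eq_one_iff _).2 (hle hy)
    · rw [hev, hev, ← map_inv, ← map_mul, ← map_mul, ← map_mul]
      rcases hh with r | r
      · exact Or.inl (congrArg π (Subtype.ext r))
      · exact Or.inr (congrArg π (Subtype.ext r))
  obtain ⟨Q, b, σ, y, D, hy⟩ := L.exists_data
  obtain ⟨Q', b', σ', y', D', hy'⟩ := lineGroup_data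
  obtain ⟨e₁⟩ := cent_iso D hy D' hy'
  have htop : Cz (π ⟨z, hSC hzS⟩) = ⊤ := eq_top_iff.2 fun g _ => mem_Cz.2 (L.cen g)
  exact ⟨z₀, P, hz₀, M₀.z_mem, fun s hs => (M₀.z_central hs).eq,
    ⟨((((MulEquiv.subgroupCongr htop).trans Subgroup.topEquiv).symm).trans e₁).trans eJ.symm⟩⟩

end Cfsg.Lib.JTwoSyl
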