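import Mathlib

/-!
Coordinates for `2^{1+4}` with a four group permuting four anticommuting involutions regularly.
-/

set_option autoImplicit false
set_option maxRecDepth 100000
set_option synthInstance.maxSize 4096
set_option synthInstance.maxHeartbeats 400000

namespace Cfsg.Lib.JTwoSyl

open Equiv

/-- `(s, i, j, k, l)` stands for `z^s a₀^i a₁^j a₂^k a₃^l`. -/
abbrev QC := Bool × Bool × Bool × Bool × Bool

/-- An element of the coordinate group with a part in the four group. -/
abbrev SC := QC × Bool × Bool

/-- Product. -/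
def qmul : QC → QC → QC
  | (s, i, j, k, l), (s', i', j', k', l') =>
    (xor (xor s s') (xor (i' && xor j (xor k l)) (xor (j' && xor k l) (k' && l))),
      xor i i', xor j j', xor k k', xor l l')

/-- The action of the first involution. -/
def qv : QC → QC
  | (s, i, j, k, l) => (xor s (xor (i && j) (k && l)), j, i, l, k)

/-- The action of the second involution. -/
def qw : QC → QC
  | (s, i, j, k, l) => (xor s (xor i j && xor k l), k, l, i, j)

/-- The action of a word in the two involutions. -/
def qact (p r : Bool) (x : QC) : QC :=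
  (if p then qv else id) ((if r then qw else id) x)

/-- Product in the extension. -/
def smul' : SC → SC → SC
  | (x, p, r), (y, p', r') => (qmul x (qact p r y), xor p p', xor r r')

def q1 : QC := (false, false, false, false, false)
def qz : QC := (true, false, false, false, false)

/-- The five points. -/
def qa : Fin 5 → QC :=
  ![(false, true, false, false, false), (false, false, true, false, false), (false, false, false, true, false),
    (false, false, false, false, true), (false, true, true, true, true)]

/-- The generators. -/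
def qg : Fin 5 → QC :=
  ![(false, true, false, false, false), (false, false, true, false, false), (false, false, false, true, false),
    (false, false, false, false, true), qz]

def one' : SC := (q1, false, false)
def zc : SC := (qz, false, false)
def ac (i : Fin 5) : SC := (qa i, false, false)
def vc : SC := (q1, true, false)
def wc : SC := (q1, false, true)

/-- Being `1` or `z`. -/
def InZ (x : SC) : Prop := x = one' ∨ x = zc

instance (x : SC) : Decidable (InZ x) := inferInstanceAs (Decidable (_ ∨ _))

/-- Conjugate, all inverses being cubes in a group of exponent dividing eight. -/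
def inv' (x : SC) : SC :=
  let x2 := smul' x x
  smul' (smul' x x2) (smul' x2 x2)

/-- Commutator. -/
def comm' (x y : SC) : SC := smul' (smul' x y) (smul' (inv' x) (inv' y))

/-- Elements are congruent modulo the centre. -/
def EqZ (x y : SC) : Prop := x = y ∨ x = smul' zc y

instance (x y : SC) : Decidable (EqZ x y) := inferInstanceAs (Decidable (_ ∨ _))

/-- The classes of the four distinguished elements. -/
def InU (x : SC) : Prop := InZ x ∨ EqZ x (ac 4)

instance (x : SC) : Decidable (InU x) := inferInstanceAs (Decidable (_ ∨ _))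

theorem inv'_spec : ∀ x : SC, smul' x (inv' x) = one' := by decide +kernel

theorem center_code : ∀ x : SC, smul' x vc = smul' vc x → smul' x (ac 0) = smul' (ac 0) x →
    smul' x wc = smul' wc x → InZ x := by decide +kernel

theorem zc_central : ∀ x : SC, smul' zc x = smul' x zc := by decide +kernel

theorem cent_q : ∀ x : SC, (∀ i : Fin 5, smul' x (ac i) = smul' (ac i) x) → InZ x := by decide +kernel

theorem second_center : ∀ x : SC, InZ (comm' x vc) → InZ (comm' x (ac 0)) → InZ (comm' x wc) → InU x := by
  decide +kernel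

theorem sq_invol : ∀ x : SC, smul' (smul' x x) (smul' x x) = one' → InU (smul' x x) := by decide +kernel

theorem sq_zc_a4 : ∀ x : SC, InU x → smul' x x = one' := by decide +kernel

theorem cent_abelian : ∀ x : SC, smul' x x = one' → smul' x (ac 4) = smul' (ac 4) x → ¬ InU x →
    ∀ t u : SC, smul' t x = smul' x t → smul' u x = smul' x u → smul' t u = smul' u t := by decide +kernel

theorem outer_sq : ∀ x : SC, (x.2.1 = true ∨ x.2.2 = true) → InZ (smul' x x) → smul' x x = one' := by
  decide +kernel

/-- The elements of a subgroup of order 32 that may contain a given outer element. -/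
def goodWith (x : SC) : Finset SC := Finset.univ.filter fun t => InZ (smul' t t) ∧ InZ (comm' x t)

theorem good_count : ∀ x : SC, (x.2.1 = true ∨ x.2.2 = true) → InZ (smul' x x) → (goodWith x).card < 32 := by
  decide +kernel

theorem cent_outer : ∀ x : SC, (x.2.1 = true ∨ x.2.2 = true) → smul' x x = one' →
    (Finset.univ.filter fun t : SC => smul' t x = smul' x t).card = 16 ∧
      ∀ t : SC, smul' t x = smul' x t → smul' t t = one' := by decide +kernel

theorem cent_cases : ∀ x : SC, (x.2.1 = true ∨ x.2.2 = true) → smul' x x = one' →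
    (∀ t : SC, smul' t x = smul' x t ↔ smul' t vc = smul' vc t) ∨
    (∀ t : SC, smul' t x = smul' x t ↔
      smul' (smul' (smul' (ac 0) t) (ac 0)) vc = smul' vc (smul' (smul' (ac 0) t) (ac 0))) := by decide +kernel

theorem a0_moves : ¬ smul' (smul' (smul' (ac 0) wc) (ac 0)) vc = smul' vc (smul' (smul' (ac 0) wc) (ac 0)) := by
  decide +kernel

theorem q_rank : (Finset.univ.filter fun t : SC => t.2.1 = false ∧ t.2.2 = false ∧ smul' t t = one').card < 16 := by
  decide +kernel

theorem exists_elation : ∀ x : SC, (x.2.1 = true ∨ x.2.2 = true) → smul' x x = one' →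
    ∃ a : SC, smul' a (ac 4) = smul' (ac 4) a ∧ InZ (comm' a x) ∧
      ∃ y, smul' y x = smul' x y ∧ ¬ InZ (comm' a y) := by decide +kernel

theorem outer_cent_a4 : ∀ x : SC, (x.2.1 = true ∨ x.2.2 = true) → smul' x x = one' →
    (∀ t : SC, smul' t x = smul' x t → smul' t (ac 4) = smul' (ac 4) t) ∧
    (∀ t : SC, InU t → smul' t x = smul' x t) := by decide +kernel

theorem comm_a : ∀ s t : SC, smul' s (ac 4) = smul' (ac 4) s → smul' t (ac 4) = smul' (ac 4) t →
    InU (comm' s t) := by decide +kernel

theorem inU_mul : ∀ s t : SC, InU s → InU t → InU (smul' s t) := by decide +kernel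

theorem conj_q : ∀ s t : SC, t.2 = (false, false) → (smul' (smul' s t) (inv' s)).2 = (false, false) := by
  decide +kernel

theorem conj_coset : ∀ x : SC, x.2 = vc.2 → smul' x x = one' →
    ∃ q : QC, EqZ (smul' (smul' (q, false, false) x) (inv' (q, false, false))) vc := by decide +kernel

theorem a4_comm : ∀ x : SC, smul' x (ac 4) = smul' (ac 4) x ∨
    smul' x (ac 4) = smul' (smul' zc (ac 4)) x := by decide +kernel

theorem q_four : ∀ x : QC, smul' (smul' (x, false, false) (x, false, false)) (smul' (x, false, false) (x, false, false)) = one' := by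
  decide +kernel

theorem signs : ∀ k : Fin 5, ∀ f : Fin 5 → Bool,
    ∃ q : QC, ∀ i, i ≠ k → qmul (qmul q (qa i)) (qmul q (qmul q q)) =
      if f i then qmul qz (qa i) else qa i := by decide +kernel

theorem even_prod : ∀ π : Perm (Fin 5), Perm.sign π = 1 →
    qmul (qmul (qmul (qa (π 0)) (qa (π 1))) (qa (π 2))) (qa (π 3)) = qa (π 4) := by decide +kernel

theorem qv_gens : ∀ i : Fin 5, qv (qa i) = qa ((swap 0 1 * swap 2 3 : Perm (Fin 5)) i) ∧
    qw (qa i) = qa ((swap 0 2 * swap 1 3 : Perm (Fin 5)) i) := by decide +kernel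

theorem qv_sq : ∀ x : QC, qmul x (qv x) ≠ qz := by decide +kernel

/-- singular elements -/
theorem qa_pts : ∀ x : QC, qmul x x = q1 →
    (x = q1 ∨ x = qz) ∨ ∃ i, x = qa i ∨ x = qmul qz (qa i) := by decide +kernel

theorem qa_cls : ∀ x : QC, (x = q1 ∨ x = qz) ∨ (∃ i, x = qa i ∨ x = qmul qz (qa i)) ∨
    ∃ i j : Fin 5, i < j ∧ (x = qmul (qa i) (qa j) ∨ x = qmul qz (qmul (qa i) (qa j))) := by decide +kernel

theorem qa_pair : ∀ i j k l : Fin 5, i < j → k < l →
    (qmul (qa i) (qa j) = qmul (qa k) (qa l) ∨ qmul (qa i) (qa j) = qmul qz (qmul (qa k) (qa l))) →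
    i = k ∧ j = l := by decide +kernel

theorem qa_sum : ∀ i j k l m : Fin 5, [i, j, k, l, m].Nodup →
    qa i = qmul (qmul (qa j) (qa k)) (qmul (qa l) (qa m)) ∨
    qa i = qmul qz (qmul (qmul (qa j) (qa k)) (qmul (qa l) (qa m))) := by decide +kernel

theorem qa_facts : ∀ i : Fin 5, qmul (qa i) (qa i) = q1 ∧ qa i ≠ q1 ∧ qa i ≠ qz ∧
    ∀ j, i ≠ j → qa i ≠ qa j ∧ qa i ≠ qmul qz (qa j) ∧ qmul (qa j) (qa i) = qmul qz (qmul (qa i) (qa j)) := by
  decide +kernel

theorem q_comm : ∀ x y : QC, qmul x y = qmul y x ∨ qmul x y = qmul qz (qmul y x) := by decide +kernel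

theorem q_sq : ∀ x : QC, qmul x x = q1 ∨ qmul x x = qz := by decide +kernel

theorem q_cen : ∀ x : QC, (∀ y, qmul y x = qmul x y) → x = q1 ∨ x = qz := by decide +kernel

def b12 : SC := (qmul (qa 1) (qa 2), false, false)
def b23 : SC := (qmul (qa 2) (qa 3), false, false)
def b01 : SC := (qmul (qa 0) (qa 1), false, false)

theorem b_facts : smul' b12 (ac 0) = smul' (ac 0) b12 ∧ smul' b23 (ac 0) = smul' (ac 0) b23 ∧
    smul' b12 b23 ≠ smul' b23 b12 ∧ smul' b12 b12 = zc ∧ smul' b01 b01 = zc ∧
    smul' b01 (ac 4) = smul' (ac 4) b01 := by decide +kernel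

theorem u_cases : ∀ x : SC, InU x → x ≠ one' → x = zc ∨ x = ac 4 ∨ x = smul' zc (ac 4) := by decide +kernel

theorem cent_card : ∀ x : SC, smul' x x = one' → ¬ InU x →
    (Finset.univ.filter fun t : SC => smul' t x = smul' x t).card = 16 := by decide +kernel

theorem cent_card_u : ∀ x : SC, InU x →
    64 ≤ (Finset.univ.filter fun t : SC => smul' t x = smul' x t).card := by decide +kernel

theorem a4_coset : ∀ x : SC, (smul' (smul' x (ac 0)) (ac 4) = smul' (ac 4) (smul' x (ac 0))) ↔
    ¬ smul' x (ac 4) = smul' (ac 4) x := by decide +kernel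

end Cfsg.Lib.JTwoSyl
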