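import Cfsg.Agent.JTwoSyl.Model
import Cfsg.Agent.LocalThree.HallJankoType.Data
import Cfsg.Agent.Transfer.ThompsonTransfer
import Cfsg.Agent.InvolCalc.Classes

/-!
An element of the centraliser of `z` moves one singular point to the point fixed by the four group.
-/

set_option autoImplicit false
set_option linter.unusedSectionVars false
set_option linter.style.haveILetI false
set_option synthInstance.maxSize 4096
set_option synthInstance.maxHeartbeats 400000

namespace Cfsg.Lib.JTwoSyl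

open Subgroup Cfsg.Lib.HallJankoType

variable {G : Type*} [Group G]

namespace Model

variable {S : Subgroup G} {z : G} {a : Fin 4 → G} {v w : G} (M : Model S z a v w)
include M

/-- The distinguished value. -/
theorem ev_ac4 : ev7 z a v w (ac 4) = ev5 z a (qa 4) := M.ev_ac 4

theorem card_cent (X : SC) : Nat.card ↥(S ⊓ centralizer ({ev7 z a v w X} : Set G)) =
    (Finset.univ.filter fun t : SC => smul' t X = smul' X t).card := by
  rw [← Fintype.card_coe, ← Nat.card_eq_fintype_card]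
  refine (Nat.card_congr (Equiv.ofBijective
    (fun t : {t // t ∈ (Finset.univ.filter fun t : SC => smul' t X = smul' X t)} =>
      (⟨ev7 z a v w t, M.mem t, mem_centralizer_singleton_iff.2
        (M.commute_iff _ _ |>.2 (Finset.mem_filter.1 t.2).2).eq⟩ : ↥(S ⊓ centralizer ({ev7 z a v w X} : Set G))))
    ⟨fun s t e => Subtype.ext (M.inj (congrArg Subtype.val e)), fun y => ?_⟩)).symm
  obtain ⟨t, ht⟩ := M.surj y y.2.1
  refine ⟨⟨t, Finset.mem_filter.2 ⟨Finset.mem_univ _, (M.commute_iff _ _).1 ?_⟩⟩, Subtype.ext ht⟩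
  rw [ht]
  exact mem_centralizer_singleton_iff.1 y.2.2

theorem inU_iff (X : SC) : (ev7 z a v w X = 1 ∨ ev7 z a v w X = z ∨ ev7 z a v w X = ev7 z a v w (ac 4) ∨
    ev7 z a v w X = z * ev7 z a v w (ac 4)) ↔ InU X := by
  unfold InU
  rw [← M.eqZ_iff, ← M.inZ_iff, or_assoc]

theorem z_ne : z ≠ 1 := fun e => absurd
  (M.inj (by rw [M.ev_zc, M.ev_one, e] : ev7 z a v w zc = ev7 z a v w one')) (by decide)

theorem orderOf_z : orderOf z = 2 :=
  orderOf_eq_prime (by rw [pow_two, M.cliff.zz]) M.z_ne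

theorem z_mem : z ∈ S := M.ev_zc ▸ M.mem zc

theorem z_central {s : G} (hs : s ∈ S) : Commute s z := by
  obtain ⟨X, rfl⟩ := M.surj s hs
  have := (M.commute_iff zc X).2 (zc_central X)
  rw [M.ev_zc] at this
  exact this.symm

theorem eq_z_of_central {x : G} (hx : x ∈ S) (hc : ∀ s ∈ S, Commute x s) (h1 : x ≠ 1) : x = z := by
  obtain ⟨X, rfl⟩ := M.surj x hx
  have h := fun Y => (M.commute_iff X Y).1 (hc _ (M.mem Y))
  exact ((M.inZ_iff X).2 (center_code X (h _) (h _) (h _))).resolve_left h1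

variable [Finite G]

theorem sq_inU {y : G} (hy : y ∈ S) (h : y * y * (y * y) = 1) : y * y = 1 ∨ y * y = z ∨
    y * y = ev7 z a v w (ac 4) ∨ y * y = z * ev7 z a v w (ac 4) := by
  obtain ⟨Y, rfl⟩ := M.surj y hy
  rw [M.mul] at h ⊢
  exact (M.inU_iff _).2 (sq_invol Y ((M.sq_iff _).1 h))

end Model

theorem conj_sq_one {g x : G} (h : x * x = 1) : g * x * g⁻¹ * (g * x * g⁻¹) = 1 := by
  rw [show g * x * g⁻¹ * (g * x * g⁻¹) = g * (x * x) * g⁻¹ by group, h]; group

variable [Finite G] {S : Sylow 2 G} {z : G} {a : Fin 4 → G} {v w : G}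

/-- A two-subgroup centralising a central involution of the Sylow subgroup moves into it. -/
theorem exists_conj_into (M : Model (S : Subgroup G) z a v w) {T : Subgroup G} (hT : IsPGroup 2 T)
    (hc : ∀ t ∈ T, Commute t z) : ∃ c : G, Commute c z ∧ ∀ t ∈ T, c * t * c⁻¹ ∈ (S : Subgroup G) := by
  haveI : Fact (Nat.Prime 2) := ⟨Nat.prime_two⟩
  have hSC : (S : Subgroup G) ≤ Cz z := fun s hs => mem_Cz.2 (M.z_central hs)
  have hTC : T ≤ Cz z := fun t ht => mem_Cz.2 (hc t ht)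
  obtain ⟨c, hc'⟩ := Cfsg.Lib.InvolCalc.exists_conj_le (S.subtype hSC) (hT.of_equiv (subgroupOfEquivOfLe hTC).symm)
  refine ⟨(c : G)⁻¹, (mem_Cz.1 c.2).inv_left, fun t ht => ?_⟩
  have h := hc' ⟨t, hTC ht⟩ ht
  rw [Sylow.coe_subtype, mem_subgroupOf] at h
  simpa [mul_assoc] using h

/-- Moving a conjugate of `z` among `a₄, z a₄` back to `z`. -/
theorem exists_back (M : Model (S : Subgroup G) z a v w) {y : G}
    (hy : y = ev7 z a v w (ac 4) ∨ y = z * ev7 z a v w (ac 4)) (hcy : IsConj y z) :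
    ∃ k : G, k * y * k⁻¹ = z ∧
      (k * z * k⁻¹ = ev7 z a v w (ac 4) ∨ k * z * k⁻¹ = z * ev7 z a v w (ac 4)) := by
  have hyz : y ≠ z := by
    rw [← M.ev_zc]
    rcases hy with rfl | rfl
    · exact fun e => absurd (M.inj e) (by decide +kernel)
    · intro e
      have h' : ev7 z a v w (smul' zc (ac 4)) = ev7 z a v w zc := by
        rw [← M.mul]; rw [M.ev_zc] at e ⊢; exact e
      exact absurd (M.inj h') (by decide +kernel)
  have hcomm : ∀ s, Commute s (ev7 z a v w (ac 4)) → s ∈ (S : Subgroup G) → Commute s y := fun s hs hsS => by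
    rcases hy with rfl | rfl
    exacts [hs, (M.z_central hsS).mul_right hs]
  obtain ⟨k₀, hk₀⟩ := isConj_iff.1 hcy
  set T := ((S : Subgroup G) ⊓ centralizer ({ev7 z a v w (ac 4)} : Set G)).map (MulAut.conj k₀).toMonoidHom with hT
  obtain ⟨c, hcz, hc⟩ := exists_conj_into M (T := T) ((S.2.to_le inf_le_left).map _) (by
    rintro _ ⟨s, hs, rfl⟩
    rw [← hk₀]
    exact (hcomm s (mem_centralizer_singleton_iff.1 hs.2) hs.1).map (MulAut.conj k₀).toMonoidHom)
  refine ⟨c * k₀, ?_, ?_⟩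
  · rw [show c * k₀ * y * (c * k₀)⁻¹ = c * (k₀ * y * k₀⁻¹) * c⁻¹ by group, hk₀, hcz.eq, mul_inv_cancel_right]
  set K := c * k₀ with hK
  set b := ev7 z a v w b01 with hb
  have hbb : b * b = z := by rw [hb, M.mul, b_facts.2.2.2.2.1, M.ev_zc]
  have hbS : K * b * K⁻¹ ∈ (S : Subgroup G) := by
    have := hc _ ⟨b, ⟨M.mem _, mem_centralizer_singleton_iff.2 ((M.commute_iff _ _).2 b_facts.2.2.2.2.2).eq⟩, rfl⟩
    simpa [hK, mul_assoc] using this
  have hsq : K * b * K⁻¹ * (K * b * K⁻¹) = K * z * K⁻¹ := by rw [← hbb]; group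
  have h4 := M.sq_inU hbS (by rw [hsq]; exact conj_sq_one M.cliff.zz)
  rw [hsq] at h4
  rcases h4 with e | e | e
  · exact absurd (conj_eq_one_iff.1 e) M.z_ne
  · refine absurd ?_ hyz
    have h1 : K * y * K⁻¹ = z := by
      rw [hK, show c * k₀ * y * (c * k₀)⁻¹ = c * (k₀ * y * k₀⁻¹) * c⁻¹ by group, hk₀, hcz.eq, mul_inv_cancel_right]
    exact mul_left_cancel (mul_right_cancel (h1.trans e.symm))
  · exact e

/-- The element of `C(z)`. -/
theorem exists_mover (M : Model (S : Subgroup G) z a v w) (h2 : ∀ H : Subgroup G, H.Normal → H.index ≠ 2) :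
    ∃ h : G, Commute h z ∧ (h * ev7 z a v w (ac 0) * h⁻¹ = ev7 z a v w (ac 4) ∨
      h * ev7 z a v w (ac 0) * h⁻¹ = z * ev7 z a v w (ac 4)) := by
  classical
  haveI : Fact (Nat.Prime 2) := ⟨Nat.prime_two⟩
  set a0 := ev7 z a v w (ac 0) with ha0
  set a4 := ev7 z a v w (ac 4) with ha4
  set A := (S : Subgroup G) ⊓ centralizer ({a4} : Set G) with hA
  have memA : ∀ X : SC, ev7 z a v w X ∈ A ↔ smul' X (ac 4) = smul' (ac 4) X := fun X => by
    rw [← M.commute_iff, hA, mem_inf, mem_centralizer_singleton_iff]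
    exact ⟨fun h => h.2, fun h => ⟨M.mem X, h.eq⟩⟩
  have hidx : ∃ m, Odd m ∧ A.index = 2 * m := by
    refine ⟨(S : Subgroup G).index, Nat.odd_iff.2 (Nat.two_dvd_ne_zero.1 S.not_dvd_index), ?_⟩
    rw [← relIndex_mul_index (show A ≤ (S : Subgroup G) from inf_le_left)]
    congr 1
    refine index_eq_two_iff.2 ⟨⟨a0, M.mem _⟩, fun b => ?_⟩
    obtain ⟨X, hX⟩ := M.surj b b.2
    rw [mem_subgroupOf, mem_subgroupOf, coe_mul, ← hX]
    show Xor (ev7 z a v w X * ev7 z a v w (ac 0) ∈ A) _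
    rw [M.mul, memA, memA]
    exact (xor_iff_not_iff _ _).2 fun h => by
      have := (a4_coset X)
      rw [h] at this
      exact not_iff_self this.symm
  obtain ⟨m, hm, hAm⟩ := hidx
  have ha0o : a0 * a0 = 1 := by rw [ha0, M.sq_iff]; decide +kernel
  have ha0one : a0 ≠ 1 := by rw [ha0, ← M.ev_one, Ne, M.inj.eq_iff]; decide +kernel
  obtain ⟨g, hg⟩ : ∃ g : G, g * a0 * g⁻¹ ∈ A := by
    by_contra hno
    push Not at hno
    obtain ⟨K, hK, hK2, -⟩ := Cfsg.Lib.Transfer.exists_index_two_not_mem A hm hAm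
      (orderOf_eq_prime (by rw [pow_two, ha0o]) ha0one) (fun g hg => hno g⁻¹ (by rwa [inv_inv]))
    exact h2 K hK hK2
  set x := g * a0 * g⁻¹ with hx
  have hxS : x ∈ (S : Subgroup G) := hg.1
  have hSx : IsPGroup 2 ((S : Subgroup G) ⊓ centralizer ({x} : Set G) : Subgroup G) := S.2.to_le inf_le_left
  -- a Sylow subgroup of the centraliser of `x`
  obtain ⟨R, hR⟩ := (hSx.of_equiv (subgroupOfEquivOfLe (inf_le_right : _ ≤ centralizer ({x} : Set G))).symm).exists_le_sylow
  set W := ((S : Subgroup G) ⊓ centralizer ({a0} : Set G)).map (MulAut.conj g).toMonoidHom with hW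
  have hWC : W ≤ centralizer ({x} : Set G) := by
    rintro _ ⟨s, hs, rfl⟩
    refine mem_centralizer_singleton_iff.2 ?_
    exact ((show Commute s a0 from mem_centralizer_singleton_iff.1 hs.2).map (MulAut.conj g).toMonoidHom).eq
  obtain ⟨c, hc⟩ := Cfsg.Lib.InvolCalc.exists_conj_le R
    (((S.2.to_le inf_le_left).map _).of_equiv (subgroupOfEquivOfLe hWC).symm)
  set R' := (R : Subgroup ↥(centralizer ({x} : Set G))).map (centralizer ({x} : Set G)).subtype with hR'
  obtain ⟨d, hd⟩ := Cfsg.Lib.InvolCalc.exists_conj_le S (H := R') (R.2.map _)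
  set e := d⁻¹ * (c : G)⁻¹ * g with he
  have hWR : ∀ s ∈ (S : Subgroup G), Commute s a0 →
      e * s * e⁻¹ ∈ (S : Subgroup G) ∧ (c : G)⁻¹ * (g * s * g⁻¹) * c ∈ R' := fun s hs hsc => by
    have h1 : g * s * g⁻¹ ∈ W := ⟨s, ⟨hs, mem_centralizer_singleton_iff.2 hsc.eq⟩, rfl⟩
    have h2 := hc ⟨_, hWC h1⟩ h1
    have h3 : (c : G)⁻¹ * (g * s * g⁻¹) * c ∈ R' := ⟨_, h2, by simp⟩
    refine ⟨?_, h3⟩
    have := hd _ h3
    simpa [he, mul_assoc] using this
  have hcx : (c : G)⁻¹ * x * c = x := by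
    rw [mul_assoc, ← mem_centralizer_singleton_iff.1 c.2, inv_mul_cancel_left]
  set x' := e * a0 * e⁻¹ with hx'
  have hx'' : x' = d⁻¹ * x * d := by
    rw [hx', he]
    calc _ = d⁻¹ * ((c : G)⁻¹ * (g * a0 * g⁻¹) * c) * d := by group
      _ = _ := by rw [← hx, hcx]
  have hx'S : x' ∈ (S : Subgroup G) := (hWR a0 (M.mem _) (Commute.refl _)).1
  obtain ⟨X', hX'⟩ := M.surj x' hx'S
  have hX'1 : smul' X' X' = one' := (M.sq_iff X').1 (by rw [hX', hx']; exact conj_sq_one ha0o)
  set b1 := ev7 z a v w b12 with hb1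
  set b2 := ev7 z a v w b23 with hb2
  have hb1c : Commute b1 a0 := (M.commute_iff _ _).2 b_facts.1
  have hb2c : Commute b2 a0 := (M.commute_iff _ _).2 b_facts.2.1
  have hU : InU X' := by
    by_contra hU
    -- the Sylow subgroup of `C(x)` is small
    have hRc : Nat.card R' ≤ 16 := by
      rw [← cent_card X' hX'1 hU, ← M.card_cent X', hX',
        ← card_map_of_injective (K := R') (f := (MulAut.conj d⁻¹).toMonoidHom) (MulAut.conj d⁻¹).injective]
      refine card_le_of_le ?_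
      rintro _ ⟨r, hr, rfl⟩
      have hrx : Commute r x := by
        obtain ⟨r', -, rfl⟩ := hr
        exact mem_centralizer_singleton_iff.1 r'.2
      refine ⟨?_, mem_centralizer_singleton_iff.2 ?_⟩
      · show d⁻¹ * r * d⁻¹⁻¹ ∈ (S : Subgroup G)
        rw [inv_inv]; exact hd r hr
      · rw [hx'', show d⁻¹ * x * d = MulAut.conj d⁻¹ x by simp]
        exact (hrx.map (MulAut.conj d⁻¹).toMonoidHom).eq
    have hSR : (S : Subgroup G) ⊓ centralizer ({x} : Set G) ≤ R' := fun s hs =>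
      ⟨⟨s, hs.2⟩, hR hs, rfl⟩
    obtain ⟨X, hX⟩ := M.surj x hxS
    have hXX : smul' X X = one' := (M.sq_iff X).1 (by rw [hX, hx]; exact conj_sq_one ha0o)
    by_cases hXU : InU X
    · have h5 := card_le_of_le hSR
      rw [← hX, M.card_cent X] at h5
      have := cent_card_u X hXU
      omega
    · have heq : (S : Subgroup G) ⊓ centralizer ({x} : Set G) = R' := by
        refine eq_of_le_of_card_ge hSR (hRc.trans (le_of_eq ?_))
        rw [← cent_card X hXX hXU, ← M.card_cent X, hX]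
      have hA4 : smul' X (ac 4) = smul' (ac 4) X := (memA X).1 (hX ▸ hg)
      have h1 := (hWR b1 (M.mem _) hb1c).2
      have h2 := (hWR b2 (M.mem _) hb2c).2
      rw [← heq] at h1 h2
      obtain ⟨T1, hT1⟩ := M.surj _ h1.1
      obtain ⟨T2, hT2⟩ := M.surj _ h2.1
      have c1 : smul' T1 X = smul' X T1 := (M.commute_iff _ _).1 (by
        rw [hT1, hX]; exact mem_centralizer_singleton_iff.1 h1.2)
      have c2 : smul' T2 X = smul' X T2 := (M.commute_iff _ _).1 (by
        rw [hT2, hX]; exact mem_centralizer_singleton_iff.1 h2.2)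
      have h3 := (M.commute_iff _ _).2 (cent_abelian X hXX hA4 hXU T1 T2 c1 c2)
      rw [hT1, hT2] at h3
      have h4 : Commute b1 b2 := by
        have := h3.map (MulAut.conj (g⁻¹ * (c : G))).toMonoidHom
        simpa [mul_assoc] using this
      exact b_facts.2.2.1 ((M.commute_iff _ _).1 h4)
  have hx'1 : x' ≠ 1 := fun h => ha0one (conj_eq_one_iff.1 h)
  have hx'cases : x' = z ∨ x' = a4 ∨ x' = z * a4 := by
    rcases (M.inU_iff X').2 hU with r | r | r | r <;> rw [hX'] at r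
    exacts [absurd r hx'1, Or.inl r, Or.inr (Or.inl r), Or.inr (Or.inr r)]
  have hsq : e * b1 * e⁻¹ * (e * b1 * e⁻¹) = e * z * e⁻¹ := by
    rw [show z = b1 * b1 by rw [hb1, M.mul, b_facts.2.2.2.1, M.ev_zc]]; group
  have hz4 := M.sq_inU (hWR b1 (M.mem _) hb1c).1 (by rw [hsq]; exact conj_sq_one M.cliff.zz)
  rw [hsq] at hz4
  have hne : e * z * e⁻¹ ≠ x' := fun h => by
    have := mul_left_cancel (mul_right_cancel (h : e * z * e⁻¹ = e * a0 * e⁻¹))
    replace this : ev7 z a v w zc = ev7 z a v w (ac 0) := M.ev_zc.trans (this.trans ha0)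
    rw [M.inj.eq_iff] at this
    exact absurd this (by decide +kernel)
  have key : ∀ y, (y = a4 ∨ y = z * a4) → e * z * e⁻¹ = y → ∀ t, (x' = z ∧ t = z ∨ x' = z * y ∧ t = z * y) →
      ∃ k : G, Commute (k * e) z ∧ (k * e * a0 * (k * e)⁻¹ = a4 ∨ k * e * a0 * (k * e)⁻¹ = z * a4) := by
    intro y hy hey t ht
    obtain ⟨k, hk1, hk2⟩ := exists_back M hy ((isConj_iff.2 ⟨e, hey⟩).symm)
    refine ⟨k, ?_, ?_⟩
    · refine mul_inv_eq_iff_eq_mul.1 ?_
      rw [show k * e * z * (k * e)⁻¹ = k * (e * z * e⁻¹) * k⁻¹ by group, hey, hk1]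
    · rw [show k * e * a0 * (k * e)⁻¹ = k * x' * k⁻¹ by rw [hx']; group]
      rcases ht with ⟨h', -⟩ | ⟨h', -⟩ <;> rw [h']
      · exact hk2
      · rw [show k * (z * y) * k⁻¹ = k * z * k⁻¹ * (k * y * k⁻¹) by group, hk1]
        have hcz : Commute a4 z := M.z_central (M.mem _)
        rcases hk2 with r | r <;> rw [r]
        · exact Or.inr hcz.eq
        · left; rw [mul_assoc, hcz.eq, ← mul_assoc, M.cliff.zz, one_mul]
  rcases hz4 with r | r | r
  · exact absurd (conj_eq_one_iff.1 r) M.z_ne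
  · refine ⟨e, mul_inv_eq_iff_eq_mul.1 r, ?_⟩
    rcases hx'cases with q | q
    · exact absurd (r.trans q.symm) hne
    · exact q
  · have hy : ∀ y, e * z * e⁻¹ = y → (y = a4 ∨ y = z * a4) →
        x' = z ∧ z = z ∨ x' = z * y ∧ z * y = z * y := by
      intro y hey hy
      rcases hx'cases with q | q | q
      · exact Or.inl ⟨q, rfl⟩
      · refine Or.inr ⟨?_, rfl⟩
        rcases hy with rfl | rfl
        · exact absurd (hey.trans q.symm) hne
        · rw [q, ← mul_assoc, M.cliff.zz, one_mul]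
      · refine Or.inr ⟨?_, rfl⟩
        rcases hy with rfl | rfl
        · exact q
        · exact absurd (hey.trans q.symm) hne
    rcases hy _ rfl r with h' | h'
    · obtain ⟨k, hk⟩ := key _ r rfl z (Or.inl h'); exact ⟨_, hk⟩
    · obtain ⟨k, hk⟩ := key _ r rfl _ (Or.inr h'); exact ⟨_, hk⟩

end Cfsg.Lib.JTwoSyl
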