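import Cfsg.Agent.JTwoSyl.Std
import Cfsg.Agent.JTwoSyl.Fusion
import Cfsg.Agent.RuSylow.Main

/-!
The normaliser of `Q` induces the alternating group, and no outer involution fuses into `Q`.
-/

set_option autoImplicit false
set_option linter.unusedSectionVars false
set_option linter.style.haveILetI false
set_option synthInstance.maxSize 4096
set_option synthInstance.maxHeartbeats 400000

namespace Cfsg.Lib.JTwoSyl

open Subgroup Equiv Cfsg.Lib.HallJankoType
open scoped commutatorElement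

variable {H : Type*} [Group H] [Finite H]

/-- The standing hypotheses. -/
structure Loc (S : Sylow 2 H) (z : H) (a : Fin 4 → H) (v w : H) : Prop where
  M : Model (S : Subgroup H) z a v w
  cen : ∀ g : H, Commute g z
  core : ∀ K : Subgroup H, K.Normal → Odd (Nat.card K) → K = ⊥
  mover : ∃ h : H, h * ev7 z a v w (ac 0) * h⁻¹ = ev7 z a v w (ac 4) ∨
    h * ev7 z a v w (ac 0) * h⁻¹ = z * ev7 z a v w (ac 4)

/-- The extraspecial subgroup. -/
def qsub {z : H} {a : Fin 4 → H} (hC : Cliff z a) : Subgroup H where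
  carrier := Set.range (ev5 z a)
  one_mem' := ⟨q1, hC.ev_one⟩
  mul_mem' := by rintro _ _ ⟨x, rfl⟩ ⟨y, rfl⟩; exact ⟨_, (hC.mul x y).symm⟩
  inv_mem' := by rintro _ ⟨x, rfl⟩; exact ⟨_, (hC.inv_ev x).symm⟩

theorem perm_image {X : Subgroup (Perm (Fin 5))} (h1 : tau1 ∈ X) (h2 : tau2 ∈ X) {ρ : Perm (Fin 5)}
    (hρ : ρ ∈ X) (h4 : ρ 0 = 4) (h8 : ¬ 8 ∣ Nat.card X) : X = alternatingGroup (Fin 5) := by
  set A := alternatingGroup (Fin 5) with hA
  have hV : vFour ≤ X ⊓ A := fun π hπ => ⟨by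
    rcases hπ with rfl | rfl | rfl | rfl
    exacts [one_mem _, h1, h2, mul_mem h1 h2], Perm.mem_alternatingGroup.2 (vFour_facts hπ).2⟩
  have hV4 : Nat.card vFour = 4 := by
    have : (vFour : Set (Perm (Fin 5))) = ({1, tau1, tau2, tau1 * tau2} : Finset (Perm (Fin 5))) := by
      ext π; simp [vFour]
    rw [← SetLike.coe_sort_coe, this, Nat.card_coe_set_eq, Set.ncard_coe_finset]
    decide +kernel
  have h60 : Nat.card A = 60 := by rw [nat_card_alternatingGroup, Nat.card_fin]; rfl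
  have hcard : Nat.card ↥(X ⊓ A) * A.relIndex X = Nat.card X := by
    rw [← relIndex_bot_left, ← inf_relIndex_left X A, relIndex_mul_relIndex _ _ _ bot_le inf_le_left, relIndex_bot_left]
  have hrel : A.relIndex X = 1 := by
    have hd : A.relIndex X ∣ 2 := by
      have := Subgroup.relIndex_dvd_index_of_normal (H := A) (K := X)
      rwa [show A.index = 2 by
        have h := A.card_mul_index
        rw [h60, Nat.card_perm, Nat.card_fin, show Nat.factorial 5 = 120 from rfl] at h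
        omega] at this
    rcases (Nat.dvd_prime Nat.prime_two).1 hd with e | e
    · exact e
    · refine absurd ?_ h8
      obtain ⟨k, hk⟩ := hV4 ▸ card_dvd_of_le hV
      rw [← hcard, e, hk]
      exact ⟨k, by ring⟩
  have hXA : X ≤ A := relIndex_eq_one.1 hrel
  have h4X : 4 ∣ Nat.card X := hV4 ▸ card_dvd_of_le (hV.trans inf_le_left)
  have horb : ∀ j : Fin 5, j ∈ MulAction.orbit X (0 : Fin 5) := by
    intro j
    fin_cases j
    exacts [⟨1, one_smul _ _⟩, ⟨⟨tau1, h1⟩, show tau1 0 = 1 by decide +kernel⟩,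
      ⟨⟨tau2, h2⟩, show tau2 0 = 2 by decide +kernel⟩,
      ⟨⟨tau1 * tau2, mul_mem h1 h2⟩, show (tau1 * tau2) 0 = 3 by decide +kernel⟩, ⟨⟨ρ, hρ⟩, h4⟩]
  have h5X : 5 ∣ Nat.card X := by
    have e := Nat.card_congr (MulAction.orbitEquivQuotientStabilizer X (0 : Fin 5))
    rw [show MulAction.orbit X (0 : Fin 5) = Set.univ from Set.eq_univ_of_forall horb, Nat.card_coe_set_eq,
      Set.ncard_univ, Nat.card_fin, ← Subgroup.index_eq_card] at e
    refine dvd_trans (dvd_of_eq e) ?_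
    exact index_dvd_card _
  refine le_antisymm hXA (relIndex_eq_one.1 ?_)
  have h := (X.subgroupOf A).card_mul_index
  rw [Nat.card_congr (subgroupOfEquivOfLe hXA).toEquiv, h60] at h
  obtain ⟨k, hk⟩ := Nat.Coprime.mul_dvd_of_dvd_of_dvd (by norm_num : Nat.Coprime 4 5) h4X h5X
  show (X.subgroupOf A).index = 1
  have hk3 : k ∣ 3 := ⟨(X.subgroupOf A).index, by rw [hk, mul_assoc] at h; omega⟩
  rw [hk] at h
  rcases (Nat.dvd_prime Nat.prime_three).1 hk3 with rfl | rfl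
  · exact absurd (Or.inl (by omega : (X.subgroupOf A).index = 3)) (Cfsg.Lib.M24Nse.alt_no_index _)
  · omega

theorem even_to_four : ∀ i : Fin 5, ∃ π : Perm (Fin 5), Perm.sign π = 1 ∧ π i = 4 := by decide +kernel

variable {S : Sylow 2 H} {z : H} {a : Fin 4 → H} {v w : H}

namespace Loc

/-- The elementary subgroup of order sixteen at `v`. -/
def Ev (_ : Loc S z a v w) : Subgroup H := (S : Subgroup H) ⊓ centralizer ({v} : Set H)

/-- Its partner. -/
def Ev' (C : Loc S z a v w) : Subgroup H := C.Ev.map (MulAut.conj (ev7 z a v w (ac 0))).toMonoidHom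

/-- The part of `S` fixing the distinguished point exactly. -/
def A (_ : Loc S z a v w) : Subgroup H := (S : Subgroup H) ⊓ centralizer ({ev7 z a v w (ac 4)} : Set H)

variable (C : Loc S z a v w)
include C

local notation "e" => ev7 z a v w

/-- `Q`. -/
abbrev Q : Subgroup H := qsub C.M.cliff

theorem mem_Q {X : SC} : e X ∈ C.Q ↔ X.2 = (false, false) := by
  constructor
  · rintro ⟨x, hx⟩
    have : e (x, false, false) = e X := by rw [← hx]; simp [ev7, bp]
    rw [← C.M.inj this]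
  · obtain ⟨x, p, r⟩ := X
    intro h
    simp only [Prod.mk.injEq] at h
    obtain ⟨rfl, rfl⟩ := h
    exact ⟨x, by simp [ev7, bp]⟩

theorem Q_code {q : H} (hq : q ∈ C.Q) : ∃ X : SC, X.2 = (false, false) ∧ e X = q := by
  obtain ⟨x, rfl⟩ := hq
  exact ⟨(x, false, false), rfl, by simp [ev7, bp]⟩

theorem Q_le : C.Q ≤ (S : Subgroup H) := fun q hq => by
  obtain ⟨X, -, rfl⟩ := C.Q_code hq
  exact C.M.mem X

theorem qm : QModel C.Q z a where
  cliff := C.M.cliff
  mem x := ⟨x, rfl⟩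
  surj _ hq := hq
  inj x y h := by
    have := C.M.inj (a₁ := (x, false, false)) (a₂ := (y, false, false)) (by simpa [ev7, bp] using h)
    exact (Prod.ext_iff.1 this).1

theorem frame : Frame z C.Q (pts5 z a) := C.qm.frame

/-- `N(Q)`. -/
abbrev N : Subgroup H := normalizer (C.Q : Set H)

theorem S_le_N : (S : Subgroup H) ≤ C.N := by
  haveI : Fact (Nat.Prime 2) := ⟨Nat.prime_two⟩
  intro s hs
  obtain ⟨X, rfl⟩ := C.M.surj s hs
  refine mem_normalizer_iff_map_conj_eq.2 (eq_of_le_of_card_ge ?_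
    (le_of_eq (card_map_of_injective (MulAut.conj (e X)).injective).symm))
  rintro _ ⟨q, hq, rfl⟩
  obtain ⟨Y, hY, rfl⟩ := C.Q_code hq
  show e X * e Y * (e X)⁻¹ ∈ C.Q
  rw [C.M.inv_ev, C.M.mul, C.M.mul, C.mem_Q]
  exact conj_q X Y hY

theorem norm {c : H} (hc : c ∈ C.N) {q : H} (hq : q ∈ C.Q) : c * q * c⁻¹ ∈ C.Q := (mem_normalizer_iff.1 hc q).1 hq

theorem exists_sigma : ∃ σ : ↥C.N →* Perm (Fin 5), ∀ (c : ↥C.N) (i : Fin 5),
    Cls z ((c : H) * pts5 z a i * (c : H)⁻¹) (pts5 z a (σ c i)) :=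
  exists_action C.frame (fun _ hc _ hq => C.norm hc hq) fun c _ => C.cen c

/-- The action on the points. -/
noncomputable def σ : ↥C.N →* Perm (Fin 5) := C.exists_sigma.choose

theorem σ_act (c : ↥C.N) (i : Fin 5) : Cls z ((c : H) * pts5 z a i * (c : H)⁻¹) (pts5 z a (C.σ c i)) :=
  C.exists_sigma.choose_spec c i

theorem σ_Q {c : ↥C.N} (hc : (c : H) ∈ C.Q) : C.σ c = 1 := Equiv.ext fun i => by
  refine C.frame.unique (C.σ_act c i) ?_
  rcases C.frame.x2.conj_cases hc (C.frame.mem i) with h | h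
  · exact Or.inl h
  · exact Or.inr h

theorem v_mem : v ∈ C.N := C.S_le_N (C.M.ev_vc ▸ C.M.mem vc)

theorem w_mem : w ∈ C.N := C.S_le_N (C.M.ev_wc ▸ C.M.mem wc)

theorem σ_v : C.σ ⟨v, C.v_mem⟩ = tau1 ∧ C.σ ⟨w, C.w_mem⟩ = tau2 := by
  constructor <;> refine Equiv.ext fun i => C.frame.unique (C.σ_act _ i) (Or.inl ?_)
  · show v * ev5 z a (qa i) * v⁻¹ = _
    rw [C.M.conj_v, (qv_gens i).1]; rfl
  · show w * ev5 z a (qa i) * w⁻¹ = _
    rw [C.M.conj_w, (qv_gens i).2]; rfl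

theorem σ_code (X : SC) : C.σ ⟨e X, C.S_le_N (C.M.mem X)⟩ = bp tau1 X.2.1 * bp tau2 X.2.2 := by
  obtain ⟨x, p, r⟩ := X
  have hq : ev5 z a x ∈ C.N := le_normalizer ⟨x, rfl⟩
  have h : (⟨e (x, p, r), C.S_le_N (C.M.mem _)⟩ : ↥C.N) =
      ⟨ev5 z a x, hq⟩ * (bp ⟨v, C.v_mem⟩ p * bp ⟨w, C.w_mem⟩ r) := Subtype.ext (by
    cases p <;> cases r <;> simp [ev7, bp])
  have hb : ∀ (g : ↥C.N) (b : Bool), C.σ (bp g b) = bp (C.σ g) b := fun g b => by cases b <;> simp [bp]
  rw [h, map_mul, map_mul, C.σ_Q ⟨x, rfl⟩, one_mul, hb, hb, C.σ_v.1, C.σ_v.2]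

/-- The stabiliser of the class of the fixed point. -/
def T : Subgroup H where
  carrier := {g | Cls z (g * e (ac 4) * g⁻¹) (e (ac 4))}
  one_mem' := Or.inl (by simp)
  mul_mem' := by
    intro g h hg hh
    show Cls z (g * h * e (ac 4) * (g * h)⁻¹) (e (ac 4))
    rw [show g * h * e (ac 4) * (g * h)⁻¹ = g * (h * e (ac 4) * h⁻¹) * g⁻¹ by group]
    rcases hh with r | r <;> rw [r]
    · exact hg
    · rw [show g * (z * e (ac 4)) * g⁻¹ = (g * z * g⁻¹) * (g * e (ac 4) * g⁻¹) by group, (C.cen g).eq,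
        mul_inv_cancel_right]
      rcases hg with r' | r' <;> rw [r']
      · exact Or.inr rfl
      · rw [← mul_assoc, C.M.cliff.zz, one_mul]; exact Or.inl rfl
  inv_mem' := by
    intro g hg
    rcases hg with r | r
    · exact Or.inl (by nth_rw 1 [← r]; group)
    · refine Or.inr ?_
      calc g⁻¹ * e (ac 4) * g⁻¹⁻¹ = g⁻¹ * (z * (z * e (ac 4))) * g := by
            rw [← mul_assoc z, C.M.cliff.zz, one_mul, inv_inv]
        _ = g⁻¹ * z * (g * e (ac 4) * g⁻¹) * g := by rw [r]; group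
        _ = (g⁻¹ * z * g) * e (ac 4) := by group
        _ = z * e (ac 4) := by rw [(C.cen g⁻¹).eq, inv_mul_cancel_right]

theorem S_le_T : (S : Subgroup H) ≤ C.T := fun s hs => by
  obtain ⟨X, rfl⟩ := C.M.surj s hs
  show Cls z (e X * e (ac 4) * (e X)⁻¹) (e (ac 4))
  rcases a4_comm X with h | h
  · exact Or.inl (by rw [C.M.mul, h, ← C.M.mul, mul_inv_cancel_right])
  · refine Or.inr ?_
    rw [C.M.mul, h, ← C.M.mul, ← C.M.mul, C.M.ev_zc, mul_inv_cancel_right]

theorem exists_T_conj {K : Subgroup H} (hK : IsPGroup 2 K) (hKT : K ≤ C.T) :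
    ∃ c ∈ C.T, ∀ k ∈ K, c * k * c⁻¹ ∈ (S : Subgroup H) := by
  haveI : Fact (Nat.Prime 2) := ⟨Nat.prime_two⟩
  obtain ⟨c, hc⟩ := Cfsg.Lib.InvolCalc.exists_conj_le (S.subtype C.S_le_T) (hK.of_equiv (subgroupOfEquivOfLe hKT).symm)
  refine ⟨(c : H)⁻¹, inv_mem c.2, fun k hk => ?_⟩
  have h := hc ⟨k, hKT hk⟩ hk
  rw [Sylow.coe_subtype, mem_subgroupOf] at h
  simpa [mul_assoc] using h

theorem comm_code (X Y : SC) : e X * e Y * (e X)⁻¹ * (e Y)⁻¹ = e (comm' X Y) := by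
  rw [C.M.inv_ev, C.M.inv_ev, mul_assoc, C.M.mul, C.M.mul, C.M.mul]; rfl

/-- `Q` is the only subgroup of `S` of its kind. -/
theorem eq_Q {K : Subgroup H} (hKS : K ≤ (S : Subgroup H)) (hK : Nat.card K = 32)
    (hc : ∀ x ∈ K, ∀ y ∈ K, x * y * x⁻¹ * y⁻¹ = 1 ∨ x * y * x⁻¹ * y⁻¹ = z)
    (hs : ∀ x ∈ K, x * x = 1 ∨ x * x = z) : K = C.Q := by
  classical
  refine eq_of_le_of_card_ge (fun x hx => ?_) (by rw [hK, C.qm.card])
  obtain ⟨X, rfl⟩ := C.M.surj x (hKS hx)
  by_contra hXQ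
  have hout : X.2.1 = true ∨ X.2.2 = true := by
    rw [C.mem_Q] at hXQ
    obtain ⟨x, p, r⟩ := X
    cases p <;> cases r <;> simp_all
  have hsq : InZ (smul' X X) := by rw [← C.M.inZ_iff, ← C.M.mul]; exact hs _ hx
  have hsub : Nat.card K ≤ (goodWith X).card := by
    have hK' : ∀ k : K, ∃ t : {t // t ∈ goodWith X}, e t = k := fun ⟨k, hk⟩ => by
      obtain ⟨Y, rfl⟩ := C.M.surj k (hKS hk)
      refine ⟨⟨Y, Finset.mem_filter.2 ⟨Finset.mem_univ _, ?_, ?_⟩⟩, rfl⟩
      · rw [← C.M.inZ_iff, ← C.M.mul]; exact hs _ hk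
      · rw [← C.M.inZ_iff, ← C.comm_code]; exact hc _ hx _ hk
    choose f hf using hK'
    rw [← Fintype.card_coe, ← Nat.card_eq_fintype_card]
    exact Nat.card_le_card_of_injective f fun k k' h => Subtype.ext (by rw [← hf k, ← hf k', h])
  have := good_count X hout hsq
  omega

theorem exists_mover_N : ∃ h : ↥C.N, C.σ h 0 = 4 := by
  haveI : Fact (Nat.Prime 2) := ⟨Nat.prime_two⟩
  obtain ⟨h, hh⟩ := C.mover
  set K := C.Q.map (MulAut.conj h).toMonoidHom with hK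
  have hKT : K ≤ C.T := by
    rintro _ ⟨q, hq, rfl⟩
    have hcl : Cls z (q * e (ac 0) * q⁻¹) (e (ac 0)) :=
      C.frame.x2.conj_cases hq (C.mem_Q.2 rfl)
    have hz' : h * z * h⁻¹ = z := by rw [(C.cen h).eq, mul_inv_cancel_right]
    show Cls z (h * q * h⁻¹ * e (ac 4) * (h * q * h⁻¹)⁻¹) (e (ac 4))
    have h1 : Cls z (h * q * h⁻¹ * (h * e (ac 0) * h⁻¹) * (h * q * h⁻¹)⁻¹) (h * e (ac 0) * h⁻¹) := by
      rw [show h * q * h⁻¹ * (h * e (ac 0) * h⁻¹) * (h * q * h⁻¹)⁻¹ = h * (q * e (ac 0) * q⁻¹) * h⁻¹ by group]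
      rcases hcl with r | r <;> rw [r]
      · exact Or.inl rfl
      · exact Or.inr (by rw [show h * (z * e (ac 0)) * h⁻¹ = h * z * h⁻¹ * (h * e (ac 0) * h⁻¹) by group, hz'])
    set g := h * q * h⁻¹
    rcases hh with r | r
    · rwa [r] at h1
    · rw [r, show g * (z * e (ac 4)) * g⁻¹ = g * z * g⁻¹ * (g * e (ac 4) * g⁻¹) by group, (C.cen g).eq,
        mul_inv_cancel_right] at h1
      rcases h1 with r' | r'
      · exact Or.inl (mul_left_cancel r')
      · exact Or.inr (mul_left_cancel r')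
  obtain ⟨c, hcT, hc⟩ := C.exists_T_conj ((S.2.to_le C.Q_le).map _) hKT
  set g := c * h with hg
  have hgQ : C.Q.map (MulAut.conj g).toMonoidHom = C.Q := by
    refine C.eq_Q ?_ ((card_map_of_injective (MulAut.conj g).injective).trans C.qm.card) ?_ ?_
    · rintro _ ⟨q, hq, rfl⟩
      have := hc _ ⟨q, hq, rfl⟩
      simpa [hg, mul_assoc] using this
    · rintro _ ⟨p, hp, rfl⟩ _ ⟨q, hq, rfl⟩
      rw [← map_inv, ← map_inv, ← map_mul, ← map_mul, ← map_mul, ← commutatorElement_def]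
      rcases C.frame.x2.comm p hp q hq with r | r <;> rw [r]
      · exact Or.inl (map_one _)
      · exact Or.inr (by show g * z * g⁻¹ = z; rw [(C.cen g).eq, mul_inv_cancel_right])
    · rintro _ ⟨p, hp, rfl⟩
      rw [← map_mul]
      rcases C.frame.x2.sq p hp with r | r <;> rw [r]
      · exact Or.inl (map_one _)
      · exact Or.inr (by show g * z * g⁻¹ = z; rw [(C.cen g).eq, mul_inv_cancel_right])
  refine ⟨⟨g, mem_normalizer_iff_map_conj_eq.2 hgQ⟩, C.frame.unique (C.σ_act _ 0) ?_⟩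
  show Cls z (g * pts5 z a 0 * g⁻¹) (pts5 z a 4)
  simp only [pts5, ← C.M.ev_ac]
  rw [hg, show c * h * e (ac 0) * (c * h)⁻¹ = c * (h * e (ac 0) * h⁻¹) * c⁻¹ by group]
  rcases hh with r | r <;> rw [r]
  · exact hcT
  · rw [show c * (z * e (ac 4)) * c⁻¹ = c * z * c⁻¹ * (c * e (ac 4) * c⁻¹) by group, (C.cen c).eq,
      mul_inv_cancel_right]
    rcases (hcT : Cls z _ _) with r' | r' <;> rw [r']
    · exact Or.inr rfl
    · rw [← mul_assoc, C.M.cliff.zz, one_mul]; exact Or.inl rfl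

theorem σ_range : C.σ.range = alternatingGroup (Fin 5) := by
  haveI : Fact (Nat.Prime 2) := ⟨Nat.prime_two⟩
  obtain ⟨h, hh⟩ := C.exists_mover_N
  refine perm_image ⟨_, C.σ_v.1⟩ ⟨_, C.σ_v.2⟩ ⟨h, rfl⟩ hh fun h8 => ?_
  set P := (S.subtype C.S_le_N).mapSurjective C.σ.rangeRestrict_surjective with hP
  have hle : Nat.card P ≤ 4 := by
    let f : Bool × Bool → ↥C.σ.range := fun b => ⟨C.σ ⟨e (q1, b.1, b.2), C.S_le_N (C.M.mem _)⟩, ⟨_, rfl⟩⟩
    have hsub : ((P : Subgroup ↥C.σ.range) : Set ↥C.σ.range) ⊆ Set.range f := by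
      intro y hy
      rw [hP, Sylow.coe_mapSurjective, Sylow.coe_subtype] at hy
      obtain ⟨⟨s, hsN⟩, hs, rfl⟩ := hy
      obtain ⟨X, rfl⟩ := C.M.surj s (mem_subgroupOf.1 hs)
      refine ⟨X.2, Subtype.ext ?_⟩
      show C.σ _ = C.σ _
      rw [C.σ_code, C.σ_code]
    have h1 := Set.ncard_le_ncard hsub (Set.finite_range f)
    rw [← Nat.card_coe_set_eq, ← Nat.card_coe_set_eq, SetLike.coe_sort_coe] at h1
    refine h1.trans ((Nat.card_le_card_of_surjective _ Set.rangeFactorization_surjective).trans ?_)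
    rw [Nat.card_eq_fintype_card]; rfl
  have hd : 2 ^ 3 ∣ Nat.card C.σ.range := h8
  have hd' := Nat.le_of_dvd Nat.card_pos (P.pow_dvd_card_of_pow_dvd_card hd)
  omega

theorem exists_K : ∃ K : Subgroup H, Odd (Nat.card K) ∧
    ∀ x, x ∈ K ↔ x ∈ centralizer (C.Q : Set H) ∧ Odd (orderOf x) := by
  haveI : Fact (Nat.Prime 2) := ⟨Nat.prime_two⟩
  set CQ := centralizer (C.Q : Set H) with hCQ
  have hCN : CQ ≤ C.N := centralizer_le_normalizer _
  haveI : (CQ.subgroupOf C.N).Normal := ⟨fun c hc n => mem_subgroupOf.2 (mem_centralizer_iff.2 fun q hq => by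
    have hq' : (n : H)⁻¹ * q * n ∈ C.Q := by
      have := C.norm (inv_mem n.2) hq
      rwa [inv_inv] at this
    show q * ((n : H) * (c : H) * (n : H)⁻¹) = (n : H) * c * (n : H)⁻¹ * q
    calc q * ((n : H) * (c : H) * (n : H)⁻¹) = n * (((n : H)⁻¹ * q * n) * c) * (n : H)⁻¹ := by group
      _ = n * ((c : H) * ((n : H)⁻¹ * q * n)) * (n : H)⁻¹ := by
        rw [mem_centralizer_iff.1 (mem_subgroupOf.1 hc) _ hq']
      _ = _ := by group)⟩
  have hinf : (S : Subgroup H) ⊓ CQ = zpowers z := by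
    refine le_antisymm (fun x hx => ?_) (zpowers_le.2 ⟨C.M.z_mem, mem_centralizer_iff.2 fun q _ => (C.cen q).eq⟩)
    obtain ⟨X, rfl⟩ := C.M.surj x hx.1
    have : InZ X := cent_q X fun i => ((C.M.commute_iff _ _).1
      (show Commute (e (ac i)) (e X) from mem_centralizer_iff.1 hx.2 _ (C.mem_Q.2 rfl))).symm
    rcases (C.M.inZ_iff X).2 this with r | r <;> rw [r]
    · exact one_mem _
    · exact mem_zpowers z
  have hzC : zpowers z ≤ CQ := hinf ▸ inf_le_right
  have hidx : ¬ 2 ∣ ((zpowers z).subgroupOf CQ).index := by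
    have h2 : ((S : Subgroup H).subgroupOf C.N).relIndex (CQ.subgroupOf C.N) = ((zpowers z).subgroupOf CQ).index := by
      rw [relIndex_subgroupOf hCN, ← inf_relIndex_right, hinf, relIndex]
    intro h
    rw [← h2] at h
    exact (S.subtype C.S_le_N).not_dvd_index (h.trans (by
      rw [Sylow.coe_subtype]
      exact Cfsg.Lib.Components.relIndex_dvd_index_of_normal_right _ _))
  have hp : IsPGroup 2 ((zpowers z).subgroupOf CQ) :=
    (S.2.to_le (zpowers_le.2 C.M.z_mem)).of_equiv (subgroupOfEquivOfLe hzC).symm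
  obtain ⟨K, hK, hKm⟩ := Cfsg.Lib.RuSylow.exists_normal_odd_complement (hp.toSylow hidx) (by
    intro x _
    refine mem_centralizer_iff.2 fun y hy => Subtype.ext ?_
    obtain ⟨i, hi⟩ := mem_zpowers_iff.1 (mem_subgroupOf.1 hy)
    show (y : H) * x = x * y
    rw [← hi]
    exact ((C.cen x).symm.zpow_left i).eq)
  refine ⟨K.map CQ.subtype, by rwa [card_map_of_injective CQ.subtype_injective], fun x => ⟨?_, fun ⟨hx, hxo⟩ => ?_⟩⟩
  · rintro ⟨y, hy, rfl⟩
    refine ⟨y.2, hK.of_dvd_nat ?_⟩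
    show orderOf (y : H) ∣ _
    rw [orderOf_coe]
    exact Subgroup.orderOf_dvd_natCard _ hy
  · exact ⟨⟨x, hx⟩, hKm _ (by rwa [orderOf_mk]), rfl⟩

theorem σ_one_decomp {c : ↥C.N} (hc : C.σ c = 1) :
    ∃ q ∈ C.Q, q * (c : H) ∈ centralizer (C.Q : Set H) := by
  classical
  have hf : ∀ i : Fin 5, ∃ f : Bool, (c : H) * pts5 z a i * (c : H)⁻¹ =
      ev5 z a (if f then qmul qz (qa i) else qa i) := by
    intro i
    have := C.σ_act c i
    rw [hc, Perm.one_apply] at this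
    rcases this with r | r
    · exact ⟨false, r⟩
    · exact ⟨true, by rw [if_pos rfl, ← C.M.cliff.mul, C.M.cliff.ev_z]; exact r⟩
  choose f hf using hf
  obtain ⟨x, hx⟩ := signs 4 f
  refine ⟨ev5 z a x, ⟨x, rfl⟩, mem_centralizer_iff.2 ?_⟩
  rintro _ ⟨y, rfl⟩
  have hfour : ∀ i : Fin 4, ev5 z a x * c * a i * (ev5 z a x * c)⁻¹ = ev5 z a (qa i.castSucc) := by
    intro i
    have h1 := hx i.castSucc (Fin.castSucc_lt_last i).ne
    have h2 := hf i.castSucc
    rw [pts5, C.M.cliff.ev_a] at h2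
    rw [show ev5 z a x * c * a i * (ev5 z a x * c)⁻¹ = ev5 z a x * ((c : H) * a i * (c : H)⁻¹) * (ev5 z a x)⁻¹ by group,
      h2, C.M.cliff.inv_ev, C.M.cliff.mul, C.M.cliff.mul]
    have hcode : ∀ (k : Fin 5) (f : Bool) (x : QC),
        qmul (qmul x (qa k)) (qmul x (qmul x x)) = (if f then qmul qz (qa k) else qa k) →
        qmul (qmul x (if f then qmul qz (qa k) else qa k)) (qmul x (qmul x x)) = qa k := by decide +kernel
    rw [hcode _ _ _ h1]
  have := C.M.cliff.conj_ev (C.cen (ev5 z a x * c)) (c := fun i => qa i.castSucc) hfour y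
  rw [show qmul (if y.1 then qz else q1) (qmul (if y.2.1 then qa ((0 : Fin 4).castSucc) else q1)
    (qmul (if y.2.2.1 then qa ((1 : Fin 4).castSucc) else q1) (qmul (if y.2.2.2.1 then qa ((2 : Fin 4).castSucc) else q1)
      (if y.2.2.2.2 then qa ((3 : Fin 4).castSucc) else q1)))) = qperm 1 y from rfl, qperm_one] at this
  exact (mul_inv_eq_iff_eq_mul.1 this).symm

theorem a0_inv : (e (ac 0))⁻¹ = e (ac 0) := by
  rw [C.M.inv_ev, show inv' (ac 0) = ac 0 by decide +kernel]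

theorem mem_Ev {T : SC} : e T ∈ C.Ev ↔ smul' T vc = smul' vc T := by
  rw [← C.M.commute_iff, Ev, mem_inf, mem_centralizer_singleton_iff, C.M.ev_vc]
  exact ⟨fun h => h.2, fun h => ⟨C.M.mem T, h.eq⟩⟩

theorem mem_A {T : SC} : e T ∈ C.A ↔ smul' T (ac 4) = smul' (ac 4) T := by
  rw [← C.M.commute_iff, A, mem_inf, mem_centralizer_singleton_iff]
  exact ⟨fun h => h.2, fun h => ⟨C.M.mem T, h.eq⟩⟩

theorem mem_Ev' {T : SC} :
    e T ∈ C.Ev' ↔ smul' (smul' (smul' (ac 0) T) (ac 0)) vc = smul' vc (smul' (smul' (ac 0) T) (ac 0)) := by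
  rw [← C.mem_Ev, ← C.M.mul, ← C.M.mul, Ev', Subgroup.mem_map]
  constructor
  · rintro ⟨y, hy, h⟩
    rw [← h]
    show e (ac 0) * (e (ac 0) * y * (e (ac 0))⁻¹) * e (ac 0) ∈ C.Ev
    have hi : ∀ x : H, e (ac 0) * x * e (ac 0) = e (ac 0) * x * (e (ac 0))⁻¹ := fun x => by rw [C.a0_inv]
    rw [hi]
    rw [show e (ac 0) * (e (ac 0) * y * (e (ac 0))⁻¹) * (e (ac 0))⁻¹ =
      (e (ac 0) * e (ac 0)) * y * (e (ac 0) * e (ac 0))⁻¹ by group, (C.M.sq_iff _).2 (by decide +kernel),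
      one_mul, inv_one, mul_one]
    exact hy
  · intro h
    refine ⟨_, h, ?_⟩
    show e (ac 0) * (e (ac 0) * e T * e (ac 0)) * (e (ac 0))⁻¹ = e T
    rw [show e (ac 0) * (e (ac 0) * e T * e (ac 0)) * (e (ac 0))⁻¹ = (e (ac 0) * e (ac 0)) * e T by group,
      (C.M.sq_iff _).2 (by decide +kernel), one_mul]

/-- Elementary abelian subgroups of order sixteen. -/
theorem sixteen {E : Subgroup H} (hES : E ≤ (S : Subgroup H)) (hE : Nat.card E = 16)
    (hc : ∀ x ∈ E, ∀ y ∈ E, Commute x y) (hs : ∀ x ∈ E, x * x = 1) : E = C.Ev ∨ E = C.Ev' := by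
  classical
  obtain ⟨t, htE, ht⟩ : ∃ t ∈ E, t ∉ C.Q := by
    by_contra hall
    push Not at hall
    have hf : ∀ x : E, ∃ t : {t // t ∈ (Finset.univ.filter fun t : SC => t.2.1 = false ∧ t.2.2 = false ∧ smul' t t = one')},
        e t = x := fun ⟨x, hx⟩ => by
      obtain ⟨X, rfl⟩ := C.M.surj x (hES hx)
      have h := C.mem_Q.1 (hall _ hx)
      exact ⟨⟨X, Finset.mem_filter.2 ⟨Finset.mem_univ _, by simp [h], by simp [h], (C.M.sq_iff X).1 (hs _ hx)⟩⟩, rfl⟩
    choose f hf using hf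
    have h1 := Nat.card_le_card_of_injective f fun k k' h => Subtype.ext (by rw [← hf k, ← hf k', h])
    rw [hE, Nat.card_eq_fintype_card, Fintype.card_coe] at h1
    exact absurd q_rank (by omega)
  obtain ⟨X, rfl⟩ := C.M.surj t (hES htE)
  have hout : X.2.1 = true ∨ X.2.2 = true := by
    rw [C.mem_Q] at ht
    obtain ⟨x, p, r⟩ := X
    cases p <;> cases r <;> simp_all
  have hXX := (C.M.sq_iff X).1 (hs _ htE)
  have hEX : E = (S : Subgroup H) ⊓ centralizer ({e X} : Set H) := by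
    refine eq_of_le_of_card_ge (fun x hx => ⟨hES hx, mem_centralizer_singleton_iff.2 (hc x hx _ htE).eq⟩) ?_
    rw [C.M.card_cent, (cent_outer X hout hXX).1, hE]
  have hmem : ∀ T, e T ∈ E ↔ smul' T X = smul' X T := fun T => by
    rw [hEX, mem_inf, mem_centralizer_singleton_iff, ← C.M.commute_iff]
    exact ⟨fun h => h.2, fun h => ⟨C.M.mem T, h.eq⟩⟩
  rcases cent_cases X hout hXX with h | h
  · refine Or.inl (le_antisymm (fun x hx => ?_) fun x hx => ?_)
    · obtain ⟨T, rfl⟩ := C.M.surj x (hES hx)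
      exact C.mem_Ev.2 ((h T).1 ((hmem T).1 hx))
    · obtain ⟨T, rfl⟩ := C.M.surj x hx.1
      exact (hmem T).2 ((h T).2 (C.mem_Ev.1 hx))
  · refine Or.inr (le_antisymm (fun x hx => ?_) fun x hx => ?_)
    · obtain ⟨T, rfl⟩ := C.M.surj x (hES hx)
      exact C.mem_Ev'.2 ((h T).1 ((hmem T).1 hx))
    · obtain ⟨y, hy, rfl⟩ := hx
      obtain ⟨T, hT⟩ := C.M.surj _ (show MulAut.conj (e (ac 0)) y ∈ (S : Subgroup H) from
        mul_mem (mul_mem (C.M.mem _) hy.1) (inv_mem (C.M.mem _)))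
      show MulAut.conj (e (ac 0)) y ∈ E
      rw [← hT, hmem, h, ← C.mem_Ev', hT]
      exact ⟨y, hy, rfl⟩

theorem S_inf_normalizer {E : Subgroup H} (hE : E = C.Ev ∨ E = C.Ev') :
    (S : Subgroup H) ⊓ normalizer (E : Set H) ≤ C.A := by
  rintro s ⟨hs, hn⟩
  obtain ⟨X, rfl⟩ := C.M.surj s hs
  rw [C.mem_A]
  by_contra hX
  have hA : e (smul' X (ac 0)) ∈ C.A := C.mem_A.2 ((a4_coset X).2 hX)
  -- elements fixing the point exactly normalise both subgroups
  have hnorm : ∀ F : Subgroup H, F = C.Ev ∨ F = C.Ev' → F ≤ (S : Subgroup H) →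
      e (smul' X (ac 0)) ∈ normalizer (F : Set H) := by
    intro F hF hFS
    refine mem_normalizer_iff_map_conj_eq.2 (eq_of_le_of_card_ge ?_
      (le_of_eq (card_map_of_injective (MulAut.conj (e (smul' X (ac 0)))).injective).symm))
    rintro _ ⟨y, hy, rfl⟩
    obtain ⟨T, rfl⟩ := C.M.surj y (hFS hy)
    show e (smul' X (ac 0)) * e T * (e (smul' X (ac 0)))⁻¹ ∈ F
    rw [show e (smul' X (ac 0)) * e T * (e (smul' X (ac 0)))⁻¹ =
      (e (smul' X (ac 0)) * e T * (e (smul' X (ac 0)))⁻¹ * (e T)⁻¹) * e T by group, C.comm_code]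
    refine mul_mem ?_ hy
    have h4 : smul' T (ac 4) = smul' (ac 4) T := by
      rcases hF with rfl | rfl
      · exact (outer_cent_a4 vc (Or.inl rfl) (by decide +kernel)).1 T (C.mem_Ev.1 hy)
      · refine (outer_cent_a4 (smul' (smul' (ac 0) vc) (ac 0)) (Or.inl rfl) (by decide +kernel)).1 T ?_
        have := C.mem_Ev'.1 hy
        revert this; clear * -; revert T; decide +kernel
    have hU := comm_a _ T (C.mem_A.1 hA) h4
    rcases hF with rfl | rfl
    · exact C.mem_Ev.2 ((outer_cent_a4 vc (Or.inl rfl) (by decide +kernel)).2 _ hU)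
    · refine C.mem_Ev'.2 ?_
      revert hU
      generalize comm' (smul' X (ac 0)) T = U
      clear * -
      revert U; decide +kernel
  have hle : E ≤ (S : Subgroup H) := by
    rcases hE with rfl | rfl
    · exact inf_le_left
    · rintro _ ⟨y, hy, rfl⟩
      show MulAut.conj (e (ac 0)) y ∈ (S : Subgroup H)
      rw [MulAut.conj_apply]
      exact mul_mem (mul_mem (C.M.mem _) hy.1) (inv_mem (C.M.mem _))
  have h0 : e (ac 0) ∈ normalizer (E : Set H) := by
    have := mul_mem (inv_mem (show e X ∈ normalizer (E : Set H) from hn)) (hnorm E hE hle)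
    rwa [← C.M.mul, inv_mul_cancel_left] at this
  have hw : e wc ∈ C.Ev := C.mem_Ev.2 (by decide +kernel)
  rcases hE with rfl | rfl
  · have := (mem_normalizer_iff.1 h0 (e wc)).1 hw
    rw [C.a0_inv, C.M.mul, C.M.mul, C.mem_Ev] at this
    exact a0_moves this
  · have hy : MulAut.conj (e (ac 0)) (e wc) ∈ C.Ev' := ⟨_, hw, rfl⟩
    have h5 : e wc ∈ C.Ev' := (mem_normalizer_iff.1 h0 _).2 hy
    exact a0_moves (C.mem_Ev'.1 h5)

/-- The commutator closure used below. -/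
def Up : Subgroup H where
  carrier := {x | ∃ X, InU X ∧ e X = x}
  one_mem' := ⟨one', Or.inl (Or.inl rfl), C.M.ev_one⟩
  mul_mem' := by
    rintro _ _ ⟨X, hX, rfl⟩ ⟨Y, hY, rfl⟩
    exact ⟨_, inU_mul X Y hX hY, (C.M.mul X Y).symm⟩
  inv_mem' := by
    rintro _ ⟨X, hX, rfl⟩
    exact ⟨X, hX, (inv_eq_of_mul_eq_one_right (by rw [C.M.mul, sq_zc_a4 X hX, C.M.ev_one])).symm⟩

theorem mem_Up {x : H} : x ∈ C.Up ↔ x = 1 ∨ x = z ∨ x = e (ac 4) ∨ x = z * e (ac 4) := by
  constructor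
  · rintro ⟨X, hX, rfl⟩; exact (C.M.inU_iff X).2 hX
  · rintro (rfl | rfl | rfl | rfl)
    · exact ⟨one', Or.inl (Or.inl rfl), C.M.ev_one⟩
    · exact ⟨zc, Or.inl (Or.inr rfl), C.M.ev_zc⟩
    · exact ⟨ac 4, Or.inr (Or.inl rfl), rfl⟩
    · exact ⟨smul' zc (ac 4), Or.inr (Or.inr rfl), by rw [← C.M.mul, C.M.ev_zc]⟩

theorem Up_conj {u y : H} (hu : u ∈ C.T) (hy : y ∈ C.Up) : u * y * u⁻¹ ∈ C.Up := by
  have hz : u * z * u⁻¹ = z := by rw [(C.cen u).eq, mul_inv_cancel_right]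
  have h4 : u * e (ac 4) * u⁻¹ ∈ C.Up := by
    rcases (hu : Cls z _ _) with r | r <;> rw [r] <;> simp [C.mem_Up]
  rw [C.mem_Up] at hy
  rcases hy with rfl | rfl | rfl | rfl
  · simp
  · rw [hz, C.mem_Up]; simp
  · exact h4
  · rw [show u * (z * e (ac 4)) * u⁻¹ = u * z * u⁻¹ * (u * e (ac 4) * u⁻¹) by group, hz]
    exact mul_mem (C.mem_Up.2 (Or.inr (Or.inl rfl))) h4

theorem outer_not_point {X : SC} (hout : X.2.1 = true ∨ X.2.2 = true) (hXX : smul' X X = one') (g : H) :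
    ¬ (g * e X * g⁻¹ = e (ac 4) ∨ g * e X * g⁻¹ = z * e (ac 4)) := by
  haveI : Fact (Nat.Prime 2) := ⟨Nat.prime_two⟩
  intro hg
  replace hg : Cls z (g * e X * g⁻¹) (e (ac 4)) := hg
  set E := (S : Subgroup H) ⊓ centralizer ({e X} : Set H) with hE
  obtain ⟨hEcard, hEsq⟩ := cent_outer X hout hXX
  have memE : ∀ t, e t ∈ E ↔ smul' t X = smul' X t := fun t => by
    rw [← C.M.commute_iff, hE, mem_inf, mem_centralizer_singleton_iff]
    exact ⟨fun h => h.2, fun h => ⟨C.M.mem t, h.eq⟩⟩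
  have hEc : Nat.card E = 16 := by rw [hE, C.M.card_cent, hEcard]
  have hEs : ∀ x ∈ E, x * x = 1 := fun x hx => by
    obtain ⟨T, rfl⟩ := C.M.surj x hx.1
    exact (C.M.sq_iff T).2 (hEsq T ((memE T).1 hx))
  have hEcomm : ∀ x ∈ E, ∀ y ∈ E, Commute x y := fun x hx y hy => by
    have h3 := hEs _ (mul_mem hx hy)
    show x * y = y * x
    calc x * y = (x * y)⁻¹ := eq_inv_of_mul_eq_one_left h3
      _ = y⁻¹ * x⁻¹ := mul_inv_rev x y
      _ = y * x := by rw [inv_eq_of_mul_eq_one_right (hEs x hx), inv_eq_of_mul_eq_one_right (hEs y hy)]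
  -- move the centraliser into `S`
  have hET : E.map (MulAut.conj g).toMonoidHom ≤ C.T := by
    rintro _ ⟨x, hx, rfl⟩
    show Cls z (g * x * g⁻¹ * e (ac 4) * (g * x * g⁻¹)⁻¹) (e (ac 4))
    have hc : Commute (g * x * g⁻¹) (g * e X * g⁻¹) :=
      (show Commute x (e X) from mem_centralizer_singleton_iff.1 hx.2).map (MulAut.conj g).toMonoidHom
    refine Or.inl (mul_inv_eq_iff_eq_mul.2 ?_)
    rcases hg with r | r <;> rw [r] at hc
    · exact hc.eq
    · have := (((C.cen (g * x * g⁻¹))).mul_right hc)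
      rw [← mul_assoc, C.M.cliff.zz, one_mul] at this
      exact this.eq
  obtain ⟨c, hcT, hc⟩ := C.exists_T_conj ((S.2.to_le inf_le_left).map _) hET
  set g₁ := c * g with hg₁
  have hg₁X : Cls z (g₁ * e X * g₁⁻¹) (e (ac 4)) := by
    rw [hg₁, show c * g * e X * (c * g)⁻¹ = c * (g * e X * g⁻¹) * c⁻¹ by group]
    rcases hg with r | r <;> rw [r]
    · exact hcT
    · rw [show c * (z * e (ac 4)) * c⁻¹ = c * z * c⁻¹ * (c * e (ac 4) * c⁻¹) by group, (C.cen c).eq,
        mul_inv_cancel_right]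
      rcases (hcT : Cls z _ _) with r' | r' <;> rw [r']
      · exact Or.inr rfl
      · rw [← mul_assoc, C.M.cliff.zz, one_mul]; exact Or.inl rfl
  have himg : ∀ (k : H), E.map (MulAut.conj k).toMonoidHom ≤ (S : Subgroup H) →
      E.map (MulAut.conj k).toMonoidHom = C.Ev ∨ E.map (MulAut.conj k).toMonoidHom = C.Ev' := fun k hk =>
    C.sixteen hk ((card_map_of_injective (MulAut.conj k).injective).trans hEc)
      (by rintro _ ⟨x, hx, rfl⟩ _ ⟨y, hy, rfl⟩; exact (hEcomm x hx y hy).map (MulAut.conj k).toMonoidHom)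
      (by rintro _ ⟨x, hx, rfl⟩; rw [← map_mul, hEs x hx, map_one])
  have hE1 : E = C.Ev ∨ E = C.Ev' := C.sixteen inf_le_left hEc hEcomm hEs
  have hE2 := himg g₁ (by
    rintro _ ⟨x, hx, rfl⟩
    have := hc _ ⟨x, hx, rfl⟩
    simpa [hg₁, mul_assoc] using this)
  have ha0sq : e (ac 0) * e (ac 0) = 1 := (C.M.sq_iff _).2 (by decide +kernel)
  obtain ⟨k, hkX, hkE⟩ : ∃ k : H, Cls z (k * e X * k⁻¹) (e (ac 4)) ∧ E.map (MulAut.conj k).toMonoidHom = E := by
    by_cases hsame : E.map (MulAut.conj g₁).toMonoidHom = E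
    · exact ⟨g₁, hg₁X, hsame⟩
    refine ⟨e (ac 0) * g₁, ?_, ?_⟩
    · rw [show e (ac 0) * g₁ * e X * (e (ac 0) * g₁)⁻¹ = e (ac 0) * (g₁ * e X * g₁⁻¹) * (e (ac 0))⁻¹ by group]
      have h0 := C.S_le_T (C.M.mem (ac 0))
      rcases hg₁X with r | r <;> rw [r]
      · exact h0
      · rw [show e (ac 0) * (z * e (ac 4)) * (e (ac 0))⁻¹ =
          e (ac 0) * z * (e (ac 0))⁻¹ * (e (ac 0) * e (ac 4) * (e (ac 0))⁻¹) by group, (C.cen _).eq,
          mul_inv_cancel_right]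
        rcases (h0 : Cls z _ _) with r' | r' <;> rw [r']
        · exact Or.inr rfl
        · rw [← mul_assoc, C.M.cliff.zz, one_mul]; exact Or.inl rfl
    · have hswap : C.Ev'.map (MulAut.conj (e (ac 0))).toMonoidHom = C.Ev := by
        ext x
        constructor
        · rintro ⟨_, ⟨y, hy, rfl⟩, rfl⟩
          show e (ac 0) * (e (ac 0) * y * (e (ac 0))⁻¹) * (e (ac 0))⁻¹ ∈ C.Ev
          rw [show e (ac 0) * (e (ac 0) * y * (e (ac 0))⁻¹) * (e (ac 0))⁻¹ =
            (e (ac 0) * e (ac 0)) * y * (e (ac 0) * e (ac 0))⁻¹ by group, ha0sq, one_mul, inv_one, mul_one]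
          exact hy
        · intro hx
          refine ⟨_, ⟨x, hx, rfl⟩, ?_⟩
          show e (ac 0) * (e (ac 0) * x * (e (ac 0))⁻¹) * (e (ac 0))⁻¹ = x
          rw [show e (ac 0) * (e (ac 0) * x * (e (ac 0))⁻¹) * (e (ac 0))⁻¹ =
            (e (ac 0) * e (ac 0)) * x * (e (ac 0) * e (ac 0))⁻¹ by group, ha0sq, one_mul, inv_one, mul_one]
      have hcomp : E.map (MulAut.conj (e (ac 0) * g₁)).toMonoidHom =
          (E.map (MulAut.conj g₁).toMonoidHom).map (MulAut.conj (e (ac 0))).toMonoidHom := by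
        rw [Subgroup.map_map]; congr 1; ext x; simp [mul_assoc]
      rw [hcomp]
      rcases hE1 with h1 | h1 <;> rcases hE2 with h2 | h2 <;> rw [h1] at h2 hsame ⊢ <;> rw [h2] at hsame ⊢
      · exact absurd rfl hsame
      · exact hswap
      · rfl
      · exact absurd rfl hsame
  have hkN : k ∈ normalizer (E : Set H) := mem_normalizer_iff_map_conj_eq.2 hkE
  obtain ⟨α, hα4, hαX, y, hy, hαy⟩ := exists_elation X hout hXX
  obtain ⟨hEa4, hUE⟩ := outer_cent_a4 X hout hXX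
  have hUpE : C.Up ≤ E := by rintro _ ⟨U, hU, rfl⟩; exact (memE U).2 (hUE U hU)
  have hAN : C.A ≤ normalizer (E : Set H) := by
    intro s hs
    obtain ⟨R, rfl⟩ := C.M.surj s hs.1
    refine mem_normalizer_iff_map_conj_eq.2 (eq_of_le_of_card_ge ?_
      (le_of_eq (card_map_of_injective (MulAut.conj (e R)).injective).symm))
    rintro _ ⟨x, hx, rfl⟩
    obtain ⟨T, rfl⟩ := C.M.surj x hx.1
    show e R * e T * (e R)⁻¹ ∈ E
    rw [show e R * e T * (e R)⁻¹ = (e R * e T * (e R)⁻¹ * (e T)⁻¹) * e T by group, C.comm_code]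
    exact mul_mem (hUpE ⟨_, comm_a R T (C.mem_A.1 hs) (hEa4 T ((memE T).1 hx)), rfl⟩) hx
  -- `A` is a Sylow subgroup of the normaliser of `E`
  set NE := normalizer (E : Set H) with hNE
  obtain ⟨R, hR⟩ := ((S.2.to_le (inf_le_left : C.A ≤ _)).of_equiv (subgroupOfEquivOfLe hAN).symm).exists_le_sylow
  obtain ⟨d, hd⟩ := Cfsg.Lib.InvolCalc.exists_conj_le S (H := (R : Subgroup NE).map NE.subtype) (R.2.map _)
  have hRcard : Nat.card ((R : Subgroup NE).map NE.subtype) ≤ Nat.card C.A := by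
    rw [← card_map_of_injective (K := (R : Subgroup NE).map NE.subtype) (f := (MulAut.conj d⁻¹).toMonoidHom)
      (MulAut.conj d⁻¹).injective]
    have hEA : E ≤ C.A := fun x hx => by
      obtain ⟨T, rfl⟩ := C.M.surj x hx.1
      exact C.mem_A.2 (hEa4 T ((memE T).1 hx))
    have hER : ∀ x ∈ E, x ∈ (R : Subgroup NE).map NE.subtype := fun x hx =>
      ⟨⟨x, hAN (hEA hx)⟩, hR (hEA hx), rfl⟩
    have himg' : E.map (MulAut.conj d⁻¹).toMonoidHom ≤ (S : Subgroup H) := by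
      rintro _ ⟨x, hx, rfl⟩
      show d⁻¹ * x * d⁻¹⁻¹ ∈ (S : Subgroup H)
      rw [inv_inv]
      exact hd x (hER x hx)
    refine card_le_of_le (le_trans ?_ (C.S_inf_normalizer (himg d⁻¹ himg')))
    rintro _ ⟨x, hx, rfl⟩
    refine ⟨?_, mem_normalizer_iff_map_conj_eq.2 ?_⟩
    · show d⁻¹ * x * d⁻¹⁻¹ ∈ (S : Subgroup H)
      rw [inv_inv]; exact hd x hx
    · obtain ⟨x', -, rfl⟩ := hx
      rw [Subgroup.map_map]
      have h6 := mem_normalizer_iff_map_conj_eq.1 x'.2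
      conv_rhs => rw [← h6, Subgroup.map_map]
      congr 1
      ext u
      simp [mul_assoc]
  -- the subgroup acting trivially modulo the four group
  set U := C.T ⊓ NE with hU
  have hAU : C.A ≤ U := le_inf (fun s hs => C.S_le_T hs.1) hAN
  let Kp : Subgroup ↥U :=
    { carrier := {u | ∀ x ∈ E, (u : H) * x * (u : H)⁻¹ * x⁻¹ ∈ C.Up}
      one_mem' := fun x _ => by simp
      mul_mem' := fun {u u'} hu hu' x hx => by
        have e1 : ((u * u' : ↥U) : H) * x * ((u * u' : ↥U) : H)⁻¹ * x⁻¹ =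
            ((u : H) * ((u' : H) * x * (u' : H)⁻¹ * x⁻¹) * (u : H)⁻¹) * ((u : H) * x * (u : H)⁻¹ * x⁻¹) := by
          simp only [coe_mul]; group
        rw [e1]
        exact mul_mem (C.Up_conj u.2.1 (hu' x hx)) (hu x hx)
      inv_mem' := fun {u} hu x hx => by
        have hx' : (u : H)⁻¹ * x * (u : H) ∈ E := by
          have := (mem_normalizer_iff.1 (inv_mem u.2.2) x).1 hx
          rwa [inv_inv] at this
        have h7 := inv_mem (hu _ hx')
        rw [show ((u : H) * ((u : H)⁻¹ * x * (u : H)) * (u : H)⁻¹ * ((u : H)⁻¹ * x * (u : H))⁻¹)⁻¹ =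
          (u : H)⁻¹ * x * (u : H)⁻¹⁻¹ * x⁻¹ by group] at h7
        exact h7 }
  haveI hKpn : Kp.Normal := ⟨fun k hk u x hx => by
    have hx' : (u : H)⁻¹ * x * (u : H) ∈ E := by
      have := (mem_normalizer_iff.1 (inv_mem u.2.2) x).1 hx
      rwa [inv_inv] at this
    have := C.Up_conj u.2.1 (hk _ hx')
    simp only [coe_mul, InvMemClass.coe_inv]
    rwa [show (u : H) * (k : H) * (u : H)⁻¹ * x * ((u : H) * (k : H) * (u : H)⁻¹)⁻¹ * x⁻¹ =
      (u : H) * ((k : H) * ((u : H)⁻¹ * x * (u : H)) * (k : H)⁻¹ * ((u : H)⁻¹ * x * (u : H))⁻¹) * (u : H)⁻¹ by group]⟩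
  have hAK : C.A.subgroupOf U ≤ Kp := fun s hs x hx => by
    obtain ⟨R', hR'⟩ := C.M.surj _ (mem_subgroupOf.1 hs).1
    obtain ⟨T, rfl⟩ := C.M.surj x hx.1
    rw [← hR', C.comm_code]
    exact ⟨_, comm_a R' T (C.mem_A.1 (hR' ▸ mem_subgroupOf.1 hs)) (hEa4 T ((memE T).1 hx)), rfl⟩
  have hidx : ¬ 2 ∣ (C.A.subgroupOf U).index := by
    intro h2
    have h3 : C.A.relIndex U ∣ C.A.relIndex NE := Dvd.intro _ (relIndex_mul_relIndex _ _ _ hAU inf_le_right)
    have h4 : C.A.relIndex NE = (R : Subgroup NE).index := by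
      rw [relIndex]
      congr 1
      refine eq_of_le_of_card_ge hR ?_
      rw [Nat.card_congr (subgroupOfEquivOfLe hAN).toEquiv, ← card_map_of_injective (K := (R : Subgroup NE))
        NE.subtype_injective]
      exact hRcard
    exact R.not_dvd_index ((h4 ▸ h2.trans h3))
  have hαS : e α ∈ C.A := C.mem_A.2 hα4
  set t := k * e α * k⁻¹ with ht
  have htNE : t ∈ NE := mul_mem (mul_mem hkN (hAN hαS)) (inv_mem hkN)
  have hzk : k * z * k⁻¹ = z := by rw [(C.cen k).eq, mul_inv_cancel_right]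
  have htT : t ∈ C.T := by
    have h8 : Cls z (t * (k * e X * k⁻¹) * t⁻¹) (k * e X * k⁻¹) := by
      rw [ht, show k * e α * k⁻¹ * (k * e X * k⁻¹) * (k * e α * k⁻¹)⁻¹ = k * (e α * e X * (e α)⁻¹ * (e X)⁻¹ * e X) * k⁻¹ by group,
        C.comm_code]
      rcases (C.M.inZ_iff _).2 hαX with r | r <;> rw [r]
      · exact Or.inl (by rw [one_mul])
      · exact Or.inr (by rw [show k * (z * e X) * k⁻¹ = k * z * k⁻¹ * (k * e X * k⁻¹) by group, hzk])
    show Cls z (t * e (ac 4) * t⁻¹) (e (ac 4))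
    rcases hkX with r | r
    · rwa [r] at h8
    · rw [r, show t * (z * e (ac 4)) * t⁻¹ = t * z * t⁻¹ * (t * e (ac 4) * t⁻¹) by group, (C.cen t).eq,
        mul_inv_cancel_right] at h8
      rcases h8 with r' | r'
      · exact Or.inl (mul_left_cancel r')
      · exact Or.inr (mul_left_cancel r')
  have htU : (⟨t, htT, htNE⟩ : ↥U) ∈ Kp := by
    have h9 : orderOf (QuotientGroup.mk' Kp ⟨t, htT, htNE⟩) ∣ orderOf (e α) := by
      refine (orderOf_map_dvd _ _).trans (dvd_of_eq ?_)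
      rw [← Subgroup.orderOf_coe]
      show orderOf t = _
      rw [ht, show k * e α * k⁻¹ = MulAut.conj k (e α) by simp, MulEquiv.orderOf_eq]
    obtain ⟨i, hi⟩ := IsPGroup.iff_orderOf.1 S.2 ⟨e α, C.M.mem α⟩
    rw [orderOf_mk] at hi
    have h10 : orderOf (QuotientGroup.mk' Kp ⟨t, htT, htNE⟩) ∣ (C.A.subgroupOf U).index :=
      (_root_.orderOf_dvd_natCard _).trans (by rw [← Subgroup.index_eq_card]; exact index_dvd_of_le hAK)
    refine (QuotientGroup.eq_one_iff _).1 (orderOf_eq_one_iff.1 (Nat.eq_one_of_dvd_coprimes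
      (Nat.Coprime.pow_left i ((Nat.prime_two.coprime_iff_not_dvd).2 hidx)) (hi ▸ h9) h10))
  have hyE : e y ∈ E := (memE y).2 hy
  have h11 := htU _ ((mem_normalizer_iff.1 hkN (e y)).1 hyE)
  have h12 : t * (k * e y * k⁻¹) * t⁻¹ * (k * e y * k⁻¹)⁻¹ = k * e (comm' α y) * k⁻¹ := by
    rw [← C.comm_code, ht]; group
  rw [show ((⟨t, htT, htNE⟩ : ↥U) : H) = t from rfl, h12, C.mem_Up] at h11
  have hu := comm_a α y hα4 (hEa4 y hy)
  have hone : ∀ u, k * u * k⁻¹ = 1 → u = 1 := fun u h => conj_eq_one_iff.1 h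
  have hkz : ∀ u, k * u * k⁻¹ = z → u = z := fun u h => mul_left_cancel (mul_right_cancel (h.trans hzk.symm))
  have hXU : ¬ InU X := by
    intro h
    rcases u_cases X h (fun r => by rw [r] at hout; revert hout; decide) with r | r | r <;>
      (rw [r] at hout; revert hout; decide)
  have hkU : Cls z (k * e (comm' α y) * k⁻¹) (e (ac 4)) := by
    rcases h11 with r | r | r | r
    · exact absurd ((C.M.inZ_iff _).1 (Or.inl (hone _ r))) hαy
    · exact absurd ((C.M.inZ_iff _).1 (Or.inr (hkz _ r))) hαy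
    · exact Or.inl r
    · exact Or.inr r
  have h13 : Cls z (k * e (comm' α y) * k⁻¹) (k * e X * k⁻¹) :=
    C.frame.cls_trans hkU (C.frame.cls_symm hkX)
  have h14 : e (comm' α y) = e X ∨ e (comm' α y) = z * e X := by
    rcases h13 with r | r
    · exact Or.inl (mul_left_cancel (mul_right_cancel r))
    · refine Or.inr (mul_left_cancel (mul_right_cancel (r.trans ?_)))
      rw [show k * (z * e X) * k⁻¹ = k * z * k⁻¹ * (k * e X * k⁻¹) by group, hzk]
  refine hXU ?_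
  rcases (C.M.eqZ_iff _ _).1 h14 with r | r
  · exact r ▸ hu
  · have : X = smul' zc (comm' α y) := C.M.inj (by
      rw [r, ← C.M.mul, ← C.M.mul, ← mul_assoc, C.M.ev_zc, C.M.cliff.zz, one_mul])
    exact this ▸ inU_mul _ _ (Or.inl (Or.inr rfl)) hu

theorem not_into_Q {X : SC} (hout : X.2.1 = true ∨ X.2.2 = true) (hXX : smul' X X = one') (g : H) :
    g * e X * g⁻¹ ∉ C.Q := by
  intro hq
  have hsq := conj_sq_one (g := g) ((C.M.sq_iff X).2 hXX)
  rcases C.frame.pts _ hq hsq with r | ⟨i, hi⟩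
  · have hz1 : InZ X := (C.M.inZ_iff X).1 (by
      rcases r with r | r
      · exact Or.inl (conj_eq_one_iff.1 r)
      · right
        rw [mul_one] at r
        calc e X = g⁻¹ * (g * e X * g⁻¹) * g := by group
          _ = z := by rw [r, (C.cen g⁻¹).eq, inv_mul_cancel_right])
    rcases hz1 with r' | r' <;> (rw [r'] at hout; revert hout; decide)
  · obtain ⟨π, hπ, hπi⟩ := even_to_four i
    obtain ⟨n, hn⟩ : π ∈ C.σ.range := C.σ_range ▸ Perm.mem_alternatingGroup.2 hπ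
    have h := C.σ_act n i
    rw [hn, hπi] at h
    refine C.outer_not_point hout hXX ((n : H) * g) ?_
    show Cls z _ _
    rw [show (n : H) * g * e X * ((n : H) * g)⁻¹ = (n : H) * (g * e X * g⁻¹) * (n : H)⁻¹ by group, C.M.ev_ac4]
    rcases hi with r | r <;> rw [r]
    · exact h
    · rw [show (n : H) * (z * pts5 z a i) * (n : H)⁻¹ = (n : H) * z * (n : H)⁻¹ * ((n : H) * pts5 z a i * (n : H)⁻¹) by group,
        (C.cen _).eq, mul_inv_cancel_right]
      refine C.frame.cls_trans (Or.inr rfl) h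

end Loc

end Cfsg.Lib.JTwoSyl
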