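import Cfsg.Agent.JTwoSyl.Code
import Cfsg.Agent.LocalThree.HallJankoType.Five

/-!
Evaluation of the coordinates.
-/

set_option autoImplicit false
set_option linter.unusedSectionVars false
set_option synthInstance.maxSize 4096
set_option synthInstance.maxHeartbeats 400000
set_option maxRecDepth 100000

namespace Cfsg.Lib.JTwoSyl

open Equiv Cfsg.Lib.HallJankoType

variable {G : Type*} [Group G]

/-- Four anticommuting involutions over a central involution. -/
structure Cliff (z : G) (a : Fin 4 → G) : Prop where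
  zz : z * z = 1
  za : ∀ i, Commute z (a i)
  aa : ∀ i, a i * a i = 1
  anti : ∀ i j, i < j → a j * a i = z * (a i * a j)

/-- The value of a code. -/
def ev5 (z : G) (a : Fin 4 → G) : QC → G
  | (s, i, j, k, l) => bp z s * (bp (a 0) i * (bp (a 1) j * (bp (a 2) k * bp (a 3) l)))

/-- The value of a code of the extension. -/
def ev7 (z : G) (a : Fin 4 → G) (v w : G) : SC → G
  | (x, p, r) => ev5 z a x * (bp v p * bp w r)

namespace Cliff

variable {z : G} {a : Fin 4 → G} (h : Cliff z a)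
include h

theorem bp_z (b b' : Bool) : bp z b * bp z b' = bp z (xor b b') := by
  cases b <;> cases b' <;> simp [bp, h.zz]

theorem bp_a (i : Fin 4) (b b' : Bool) : bp (a i) b * bp (a i) b' = bp (a i) (xor b b') := by
  cases b <;> cases b' <;> simp [bp, h.aa]

theorem bp_za (i : Fin 4) (b b' : Bool) : Commute (bp z b) (bp (a i) b') := bp_comm (h.za i) b b'

theorem swap' {i j : Fin 4} (hij : i < j) (b b' : Bool) :
    bp (a j) b' * bp (a i) b = bp z (b && b') * (bp (a i) b * bp (a j) b') := by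
  cases b <;> cases b' <;> simp [bp, h.anti i j hij]

theorem left_z (b : Bool) (x : QC) : bp z b * ev5 z a x = ev5 z a (xor b x.1, x.2) := by
  obtain ⟨s, i, j, k, l⟩ := x
  show bp z b * (bp z s * _) = _
  rw [← mul_assoc, h.bp_z]; rfl

theorem step3 (b : Bool) (s i j k l : Bool) :
    ev5 z a (s, i, j, k, l) * bp (a 3) b = ev5 z a (s, i, j, k, xor l b) := by
  simp only [ev5, mul_assoc, h.bp_a]

theorem step2 (b : Bool) (s i j k l : Bool) :
    ev5 z a (s, i, j, k, l) * bp (a 2) b = ev5 z a (xor s (b && l), i, j, xor k b, l) := by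
  simp only [ev5, mul_assoc]
  rw [h.swap' (show (2 : Fin 4) < 3 by decide)]
  rw [← mul_assoc (bp (a 2) k), ← (h.bp_za 2 _ k).eq, mul_assoc, ← mul_assoc (bp (a 1) j),
    ← (h.bp_za 1 _ j).eq, mul_assoc, ← mul_assoc (bp (a 0) i), ← (h.bp_za 0 _ i).eq, mul_assoc,
    ← mul_assoc (bp z s), h.bp_z, ← mul_assoc (bp (a 2) k), h.bp_a]

theorem step1 (b : Bool) (s i j k l : Bool) :
    ev5 z a (s, i, j, k, l) * bp (a 1) b = ev5 z a (xor s (b && xor k l), i, xor j b, k, l) := by
  simp only [ev5, mul_assoc]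
  rw [h.swap' (show (1 : Fin 4) < 3 by decide), ← mul_assoc (bp (a 2) k), ← (h.bp_za 2 _ k).eq, mul_assoc,
    ← mul_assoc (bp (a 2) k), h.swap' (show (1 : Fin 4) < 2 by decide), ← mul_assoc (bp z (b && l)),
    ← mul_assoc (bp z (b && l)), h.bp_z, mul_assoc, mul_assoc, ← mul_assoc (bp (a 1) j),
    ← (h.bp_za 1 _ j).eq, mul_assoc, ← mul_assoc (bp (a 0) i), ← (h.bp_za 0 _ i).eq, mul_assoc,
    ← mul_assoc (bp z s), h.bp_z, ← mul_assoc (bp (a 1) j), h.bp_a]
  congr 2
  cases b <;> cases k <;> cases l <;> rfl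

theorem step0 (b : Bool) (s i j k l : Bool) :
    ev5 z a (s, i, j, k, l) * bp (a 0) b = ev5 z a (xor s (b && xor j (xor k l)), xor i b, j, k, l) := by
  simp only [ev5, mul_assoc]
  rw [h.swap' (show (0 : Fin 4) < 3 by decide), ← mul_assoc (bp (a 2) k), ← (h.bp_za 2 _ k).eq, mul_assoc,
    ← mul_assoc (bp (a 2) k), h.swap' (show (0 : Fin 4) < 2 by decide), ← mul_assoc (bp z (b && l)),
    ← mul_assoc (bp z (b && l)), h.bp_z, mul_assoc, mul_assoc, ← mul_assoc (bp (a 1) j),
    ← (h.bp_za 1 _ j).eq, mul_assoc, ← mul_assoc (bp (a 1) j), h.swap' (show (0 : Fin 4) < 1 by decide),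
    mul_assoc (bp z (b && j)), ← mul_assoc (bp z (xor (b && l) (b && k))), h.bp_z, mul_assoc,
    ← mul_assoc (bp (a 0) i), ← (h.bp_za 0 _ i).eq, mul_assoc,
    ← mul_assoc (bp z s), h.bp_z, ← mul_assoc (bp (a 0) i), h.bp_a]
  congr 2
  cases b <;> cases j <;> cases k <;> cases l <;> rfl

theorem mul (x y : QC) : ev5 z a x * ev5 z a y = ev5 z a (qmul x y) := by
  obtain ⟨s, i, j, k, l⟩ := x
  obtain ⟨s', i', j', k', l'⟩ := y
  have hz : ev5 z a (s, i, j, k, l) * bp z s' = bp z s' * ev5 z a (s, i, j, k, l) := by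
    refine (((bp_comm (Commute.refl z) s' s).mul_right ?_).eq).symm
    exact (h.bp_za 0 _ _).mul_right ((h.bp_za 1 _ _).mul_right ((h.bp_za 2 _ _).mul_right (h.bp_za 3 _ _)))
  conv_lhs => arg 2; unfold ev5
  rw [← mul_assoc, hz, h.left_z, ← mul_assoc, h.step0, ← mul_assoc, h.step1, ← mul_assoc, h.step2, h.step3]
  congr 1
  clear hz
  revert s i j k l s' i' j' k' l'
  decide +kernel

theorem ev_one : ev5 z a q1 = 1 := by simp [ev5, q1, bp]

theorem ev_z : ev5 z a qz = z := by simp [ev5, qz, bp]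

theorem ev_a (i : Fin 4) : ev5 z a (qa i.castSucc) = a i := by
  fin_cases i <;> simp [ev5, qa, bp]

theorem inv_ev (x : QC) : (ev5 z a x)⁻¹ = ev5 z a (qmul x (qmul x x)) := by
  refine inv_eq_of_mul_eq_one_right ?_
  rw [h.mul, show qmul x (qmul x (qmul x x)) = q1 by revert x; decide, h.ev_one]

/-- A map permuting the four generators as prescribed by codes. -/
theorem conj_ev {g : G} (hz : Commute g z) {c : Fin 4 → QC} (hc : ∀ i, g * a i * g⁻¹ = ev5 z a (c i)) (x : QC) :
    g * ev5 z a x * g⁻¹ = ev5 z a (qmul (if x.1 then qz else q1) (qmul (if x.2.1 then c 0 else q1)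
      (qmul (if x.2.2.1 then c 1 else q1) (qmul (if x.2.2.2.1 then c 2 else q1) (if x.2.2.2.2 then c 3 else q1))))) := by
  have hb : ∀ i (b : Bool), g * bp (a i) b * g⁻¹ = ev5 z a (if b then c i else q1) := fun i b => by
    cases b
    · simp [bp, h.ev_one]
    · simpa [bp] using hc i
  have hs : ∀ b : Bool, g * bp z b * g⁻¹ = ev5 z a (if b then qz else q1) := fun b => by
    cases b
    · simp [bp, h.ev_one]
    · simp [bp, h.ev_z, hz.eq]
  obtain ⟨s, i, j, k, l⟩ := x
  rw [← h.mul, ← h.mul, ← h.mul, ← h.mul, ← hs, ← hb, ← hb, ← hb, ← hb]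
  simp only [ev5]
  group

end Cliff

/-- The Sylow subgroup in coordinates. -/
structure Model (S : Subgroup G) (z : G) (a : Fin 4 → G) (v w : G) : Prop where
  cliff : Cliff z a
  zv : Commute z v
  zw : Commute z w
  vv : v * v = 1
  ww : w * w = 1
  vw : Commute v w
  va : ∀ i : Fin 4, v * a i * v⁻¹ = a (![1, 0, 3, 2] i)
  wa : ∀ i : Fin 4, w * a i * w⁻¹ = a (![2, 3, 0, 1] i)
  mem : ∀ x, ev7 z a v w x ∈ S
  surj : ∀ s ∈ S, ∃ x, ev7 z a v w x = s
  card : Nat.card S = 128

namespace Model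

variable {S : Subgroup G} {z : G} {a : Fin 4 → G} {v w : G} (M : Model S z a v w)
include M

theorem inj : Function.Injective (ev7 z a v w) := by
  have : Finite S := Nat.finite_of_card_ne_zero (by rw [M.card]; norm_num)
  let f : SC → S := fun x => ⟨ev7 z a v w x, M.mem x⟩
  have hf : Function.Bijective f := by
    refine Function.Surjective.bijective_of_nat_card_le (fun s => ?_) ?_
    · obtain ⟨x, hx⟩ := M.surj s s.2
      exact ⟨x, Subtype.ext hx⟩
    · rw [M.card, Nat.card_eq_fintype_card]; rfl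
  exact fun x y e => hf.1 (Subtype.ext e)

theorem conj_v (x : QC) : v * ev5 z a x * v⁻¹ = ev5 z a (qv x) := by
  rw [M.cliff.conj_ev M.zv.symm (c := fun i => qa ((![1, 0, 3, 2] i : Fin 4).castSucc))
    (fun i => by rw [M.va, M.cliff.ev_a])]
  congr 1
  revert x
  decide

theorem conj_w (x : QC) : w * ev5 z a x * w⁻¹ = ev5 z a (qw x) := by
  rw [M.cliff.conj_ev M.zw.symm (c := fun i => qa ((![2, 3, 0, 1] i : Fin 4).castSucc))
    (fun i => by rw [M.wa, M.cliff.ev_a])]
  congr 1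
  revert x
  decide

theorem conj_pr (p r : Bool) (x : QC) :
    bp v p * bp w r * ev5 z a x = ev5 z a (qact p r x) * (bp v p * bp w r) := by
  have h1 : ∀ x, v * ev5 z a x = ev5 z a (qv x) * v := fun x => mul_inv_eq_iff_eq_mul.1 (M.conj_v x)
  have h2 : ∀ x, w * ev5 z a x = ev5 z a (qw x) * w := fun x => mul_inv_eq_iff_eq_mul.1 (M.conj_w x)
  cases p <;> cases r <;> simp [bp, qact, h1, h2, mul_assoc]
  rw [← mul_assoc, h1, mul_assoc]

theorem mul (X Y : SC) : ev7 z a v w X * ev7 z a v w Y = ev7 z a v w (smul' X Y) := by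
  obtain ⟨x, p, r⟩ := X
  obtain ⟨y, p', r'⟩ := Y
  show ev5 z a x * (bp v p * bp w r) * (ev5 z a y * (bp v p' * bp w r')) = ev5 z a _ * (bp v _ * bp w _)
  have e1 : ∀ b b', bp v b * bp v b' = bp v (xor b b') := fun b b' => by cases b <;> cases b' <;> simp [bp, M.vv]
  have e2 : ∀ b b', bp w b * bp w b' = bp w (xor b b') := fun b b' => by cases b <;> cases b' <;> simp [bp, M.ww]
  calc ev5 z a x * (bp v p * bp w r) * (ev5 z a y * (bp v p' * bp w r'))
      = ev5 z a x * ((bp v p * bp w r) * ev5 z a y) * (bp v p' * bp w r') := by group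
    _ = ev5 z a x * (ev5 z a (qact p r y) * (bp v p * bp w r)) * (bp v p' * bp w r') := by rw [M.conj_pr]
    _ = (ev5 z a x * ev5 z a (qact p r y)) * (bp v p * (bp w r * bp v p') * bp w r') := by group
    _ = _ := by
      rw [M.cliff.mul, ← (bp_comm M.vw p' r).eq, ← e1, ← e2]; group

theorem ev_one : ev7 z a v w one' = 1 := by simp [ev7, one', bp, M.cliff.ev_one]

theorem ev_zc : ev7 z a v w zc = z := by simp [ev7, zc, bp, M.cliff.ev_z]

theorem ev_vc : ev7 z a v w vc = v := by simp [ev7, vc, bp, M.cliff.ev_one]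

theorem ev_wc : ev7 z a v w wc = w := by simp [ev7, wc, bp, M.cliff.ev_one]

theorem ev_ac (i : Fin 5) : ev7 z a v w (ac i) = ev5 z a (qa i) := by simp [ev7, ac, bp]

theorem inv_ev (X : SC) : (ev7 z a v w X)⁻¹ = ev7 z a v w (inv' X) :=
  inv_eq_of_mul_eq_one_right (by rw [M.mul, inv'_spec, M.ev_one])

theorem commute_iff (X Y : SC) : Commute (ev7 z a v w X) (ev7 z a v w Y) ↔ smul' X Y = smul' Y X := by
  constructor
  · intro h
    exact M.inj (by rw [← M.mul, ← M.mul]; exact h.eq)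
  · intro h
    show _ * _ = _ * _
    rw [M.mul, M.mul, h]

theorem sq_iff (X : SC) : ev7 z a v w X * ev7 z a v w X = 1 ↔ smul' X X = one' := by
  rw [M.mul, ← M.ev_one]
  exact M.inj.eq_iff

theorem inZ_iff (X : SC) : (ev7 z a v w X = 1 ∨ ev7 z a v w X = z) ↔ InZ X := by
  unfold InZ
  rw [← M.inj.eq_iff (a := X) (b := one'), ← M.inj.eq_iff (a := X) (b := zc), M.ev_one, M.ev_zc]

theorem eqZ_iff (X Y : SC) :
    (ev7 z a v w X = ev7 z a v w Y ∨ ev7 z a v w X = z * ev7 z a v w Y) ↔ EqZ X Y := by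
  unfold EqZ
  rw [← M.inj.eq_iff (a := X) (b := Y), ← M.inj.eq_iff (a := X) (b := smul' zc Y), ← M.mul, M.ev_zc]

/-- Transport. -/
theorem map {H : Type*} [Group H] (f : G →* H) (hf : Set.InjOn f S) :
    Model (S.map f) (f z) (f ∘ a) (f v) (f w) := by
  have hb : ∀ g b, f (bp g b) = bp (f g) b := fun g b => by cases b <;> simp [bp]
  have hev : ∀ x, f (ev7 z a v w x) = ev7 (f z) (f ∘ a) (f v) (f w) x := by
    rintro ⟨⟨s, i, j, k, l⟩, p, r⟩
    simp [ev7, ev5, hb]
  refine ⟨⟨?_, fun i => (M.cliff.za i).map f, fun i => ?_, fun i j hij => ?_⟩, M.zv.map f, M.zw.map f, ?_, ?_,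
    M.vw.map f, fun i => ?_, fun i => ?_, fun x => hev x ▸ Subgroup.mem_map_of_mem f (M.mem x), ?_, ?_⟩
  · rw [← map_mul, M.cliff.zz, map_one]
  · simp only [Function.comp_apply]; rw [← map_mul, M.cliff.aa, map_one]
  · simp only [Function.comp_apply]; rw [← map_mul, ← map_mul, ← map_mul, M.cliff.anti i j hij]
  · rw [← map_mul, M.vv, map_one]
  · rw [← map_mul, M.ww, map_one]
  · simp only [Function.comp_apply]; rw [← map_inv, ← map_mul, ← map_mul, M.va]
  · simp only [Function.comp_apply]; rw [← map_inv, ← map_mul, ← map_mul, M.wa]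
  · rintro _ ⟨s, hs, rfl⟩
    obtain ⟨x, rfl⟩ := M.surj s hs
    exact ⟨x, (hev x).symm⟩
  · rw [← M.card]
    exact Nat.card_image_of_injOn hf

end Model

end Cfsg.Lib.JTwoSyl
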