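import Cfsg.Agent.JTwoSyl.Local
import Cfsg.Agent.AltEightType.Final
import Cfsg.Prelude.Def_CaseTheorems

/-!
`Q` is normal, with quotient the alternating group of degree five.
-/

set_option autoImplicit false
set_option linter.unusedSectionVars false
set_option linter.style.haveILetI false
set_option synthInstance.maxSize 4096
set_option synthInstance.maxHeartbeats 400000

namespace Cfsg.Lib.JTwoSyl

open Subgroup Equiv Cfsg.Lib.HallJankoType
open Cfsg.Lib.AltEightType (A5 V0)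

theorem exists_rho : (∀ π : Perm (Fin 5), Perm.sign π = 1 → π * π = 1 → π ≠ 1 →
      ∃ ρ : Perm (Fin 5), Perm.sign ρ = 1 ∧ ρ * π * ρ⁻¹ = Cfsg.Lib.HallJankoType.tau1) ∧
    ∀ i j : Fin 5, i ≠ j → ∃ π : Perm (Fin 5), Perm.sign π = 1 ∧ π i = 0 ∧ π j = 1 ∨
      Perm.sign π = 1 ∧ π i = 1 ∧ π j = 0 := by
  refine ⟨fun π h1 h2 h3 => ?_, by decide +kernel⟩
  obtain ⟨ρ, hρ, h⟩ := perm_std π h1 h2 h3
  exact ⟨ρ, hρ, h⟩

theorem vFour_comm {π ρ : Perm (Fin 5)} (hπ : π ∈ vFour) (hρ : ρ ∈ vFour) : π * ρ * π⁻¹ = ρ := by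
  rcases hπ with rfl | rfl | rfl | rfl <;> rcases hρ with rfl | rfl | rfl | rfl <;> decide +kernel

theorem bp_vFour : ∀ p r : Bool, bp Cfsg.Lib.HallJankoType.tau1 p * bp Cfsg.Lib.HallJankoType.tau2 r = 1 ∨ bp Cfsg.Lib.HallJankoType.tau1 p * bp Cfsg.Lib.HallJankoType.tau2 r = Cfsg.Lib.HallJankoType.tau1 ∨
    bp Cfsg.Lib.HallJankoType.tau1 p * bp Cfsg.Lib.HallJankoType.tau2 r = Cfsg.Lib.HallJankoType.tau2 ∨ bp Cfsg.Lib.HallJankoType.tau1 p * bp Cfsg.Lib.HallJankoType.tau2 r = Cfsg.Lib.HallJankoType.tau1 * Cfsg.Lib.HallJankoType.tau2 := by decide +kernel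

theorem bp_eq_tau : ∀ p r : Bool, bp Cfsg.Lib.HallJankoType.tau1 p * bp Cfsg.Lib.HallJankoType.tau2 r = Cfsg.Lib.HallJankoType.tau1 → p = true ∧ r = false := by decide +kernel

theorem bp_coe : ∀ p r : Bool, bp Cfsg.Lib.HallJankoType.tau1 p * bp Cfsg.Lib.HallJankoType.tau2 r =
    ((bp Cfsg.Lib.AltEightType.a1 p * bp Cfsg.Lib.AltEightType.a2 r : A5) : Perm (Fin 5)) := by decide +kernel

variable {H : Type*} [Group H] [Finite H] {S : Sylow 2 H} {z : H} {a : Fin 4 → H} {v w : H}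

namespace Loc

variable (C : Loc S z a v w)
include C

local notation "e" => ev7 z a v w

theorem zpowers_normal : (zpowers z).Normal :=
  ⟨fun x hx g => by
    obtain ⟨i, rfl⟩ := mem_zpowers_iff.1 hx
    rw [((C.cen g).zpow_right i).eq, mul_inv_cancel_right]
    exact zpow_mem (mem_zpowers z) i⟩

theorem zpowers_le_Q : zpowers z ≤ C.Q := zpowers_le.2 C.frame.x2.mem

theorem mem_zp {x : H} : x ∈ zpowers z ↔ x = 1 ∨ x = z :=
  Cfsg.Lib.LargeExtra.mem_zpowers_two C.M.cliff.zz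

theorem odd_elem_centralizer_trivial {x : H} (hN : C.Q.Normal) (hx : x ∈ centralizer (C.Q : Set H)) :
    x ∈ C.Q := by
  haveI := hN
  haveI : Fact (Nat.Prime 2) := ⟨Nat.prime_two⟩
  obtain ⟨K, hK, hKm⟩ := C.exists_K
  have hKn : K.Normal := ⟨fun k hk g => by
    obtain ⟨h1, h2⟩ := (hKm k).1 hk
    refine (hKm _).2 ⟨mem_centralizer_iff.2 fun q hq => ?_, ?_⟩
    · have h3 := mem_centralizer_iff.1 h1 (g⁻¹ * q * g) (by simpa using hN.conj_mem q hq g⁻¹)
      calc q * (g * k * g⁻¹) = g * ((g⁻¹ * q * g) * k) * g⁻¹ := by group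
        _ = g * (k * (g⁻¹ * q * g)) * g⁻¹ := by rw [h3]
        _ = _ := by group
    · rw [← MulAut.conj_apply, MulEquiv.orderOf_eq]; exact h2⟩
  have hK1 := C.core K hKn hK
  obtain ⟨p, b, hp, hb, hpb, ⟨i, hi⟩, hbo⟩ := Cfsg.Lib.Transfer.exists_pPart 2 x
  have hZ : zpowers x ≤ centralizer (C.Q : Set H) := zpowers_le.2 hx
  have hb1 : b = 1 := by
    have : b ∈ K := (hKm b).2 ⟨hZ hb, Nat.coprime_two_right.1 hbo⟩
    rwa [hK1, mem_bot] at this
  obtain ⟨d, hd⟩ := Cfsg.Lib.InvolCalc.exists_conj_le S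
    (IsPGroup.of_card (n := i) (by rw [Nat.card_zpowers, hi]) : IsPGroup 2 (zpowers p))
  obtain ⟨X, hX⟩ := C.M.surj _ (hd p (mem_zpowers p))
  have hXc : InZ X := cent_q X fun j => ((C.M.commute_iff _ _).1 (by
    rw [hX]
    have h4 : d * e (ac j) * d⁻¹ ∈ C.Q := hN.conj_mem _ (C.mem_Q.2 rfl) d
    have h5 := (show Commute (d * e (ac j) * d⁻¹) p from mem_centralizer_iff.1 (hZ hp) _ h4).map
      (MulAut.conj d⁻¹).toMonoidHom
    simpa [mul_assoc] using h5)).symm
  rw [← hpb, hb1, mul_one]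
  have h6 : d⁻¹ * p * d ∈ C.Q := by
    rw [← hX]
    rcases (C.M.inZ_iff X).2 hXc with r | r <;> rw [r]
    · exact one_mem _
    · exact C.frame.x2.mem
  simpa [mul_assoc] using hN.conj_mem _ h6 d

set_option maxHeartbeats 4000000 in
theorem normal_Q : C.Q.Normal := by
  classical
  haveI : Fact (Nat.Prime 2) := ⟨Nat.prime_two⟩
  haveI := C.zpowers_normal
  set π := QuotientGroup.mk' (zpowers z) with hπ
  have hπs : Function.Surjective π := QuotientGroup.mk'_surjective _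
  have hker : π.ker = zpowers z := QuotientGroup.ker_mk' _
  have hπeq : ∀ x y : H, π x = π y ↔ y = x ∨ y = z * x := fun x y => by
    rw [hπ, QuotientGroup.mk'_apply, QuotientGroup.mk'_apply, QuotientGroup.eq, C.mem_zp]
    constructor
    · rintro (r | r)
      · exact Or.inl (inv_mul_eq_one.1 r).symm
      · exact Or.inr (by rw [← (C.cen x).eq, ← r, mul_inv_cancel_left])
    · rintro (rfl | rfl)
      · exact Or.inl (inv_mul_cancel _)
      · exact Or.inr (by rw [← (C.cen x).eq, inv_mul_cancel_left])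
  have hπz : π z = 1 := (QuotientGroup.eq_one_iff _).2 (mem_zpowers z)
  have hcard2 : ∀ K : Subgroup H, zpowers z ≤ K → 2 * Nat.card (K.map π) = Nat.card K := by
    intro K hK
    have hz2 : Nat.card (zpowers z) = 2 := by rw [Nat.card_zpowers, C.M.orderOf_z]
    have h1 : Nat.card (K.map π) = π.ker.relIndex K := by
      rw [← relIndex_bot_left, ← Subgroup.map_bot π, relIndex_map_map, bot_sup_eq, relIndex_sup_right]
    rw [h1, hker]
    nth_rw 1 [← hz2]
    rw [← relIndex_bot_left, ← relIndex_bot_left, relIndex_mul_relIndex _ _ _ bot_le hK]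
  set A' := C.Q.map π with hA'
  set S' := S.mapSurjective hπs with hS'
  have hS'coe : (S' : Subgroup (H ⧸ zpowers z)) = (S : Subgroup H).map π := Sylow.coe_mapSurjective hπs S
  set N' := normalizer (A' : Set (H ⧸ zpowers z)) with hN'
  have hmemN : ∀ g : H, π g ∈ N' ↔ g ∈ C.N := by
    intro g
    constructor
    · intro hg
      refine mem_normalizer_iff_map_conj_eq.2 (eq_of_le_of_card_ge ?_
        (le_of_eq (card_map_of_injective (MulAut.conj g).injective).symm))
      rintro _ ⟨q, hq, rfl⟩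
      obtain ⟨q', hq', h⟩ := (mem_normalizer_iff.1 hg (π q)).1 (mem_map_of_mem π hq)
      show g * q * g⁻¹ ∈ C.Q
      rw [← map_inv, ← map_mul, ← map_mul, hπeq] at h
      rcases h with r | r <;> rw [r]
      · exact hq'
      · exact mul_mem C.frame.x2.mem hq'
    · exact fun hg => (le_normalizer_map π) (mem_map_of_mem π hg)
  let f : ↥C.N →* ↥N' := (π.comp C.N.subtype).codRestrict N' fun c => (hmemN c).2 c.2
  have hf : Function.Surjective f := fun ⟨y, hy⟩ => by
    obtain ⟨g, rfl⟩ := hπs y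
    exact ⟨⟨g, (hmemN g).1 hy⟩, rfl⟩
  let ψ : ↥C.N →* A5 := C.σ.codRestrict _ fun c => C.σ_range ▸ ⟨c, rfl⟩
  let πA : ↥N' →* A5 := f.liftOfSurjective hf ⟨ψ, fun c hc => by
    have : (c : H) ∈ zpowers z := (QuotientGroup.eq_one_iff _).1 (congrArg Subtype.val (MonoidHom.mem_ker.1 hc))
    exact MonoidHom.mem_ker.2 (Subtype.ext (C.σ_Q (C.zpowers_le_Q this)))⟩
  have hπA : ∀ c, πA (f c) = ψ c := fun c => MonoidHom.liftOfRightInverse_comp_apply f _ _ _ c
  have hAs : A' ≤ (S' : Subgroup (H ⧸ zpowers z)) := hS'coe ▸ map_mono C.Q_le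
  have hQz : ∀ X : SC, X.2 = (false, false) → π (e X) ∈ A' := fun X hX => mem_map_of_mem π (C.mem_Q.2 hX)
  have hA'16 : Nat.card A' = 16 := by
    have h16 : 2 * Nat.card A' = 32 := (hcard2 C.Q C.zpowers_le_Q).trans C.qm.card
    omega
  have hEl : Cfsg.IsElementaryAbelian 2 A' := by
    refine ⟨⟨⟨?_⟩⟩, ?_⟩
    · rintro ⟨_, p, hp, rfl⟩ ⟨_, q, hq, rfl⟩
      refine Subtype.ext ?_
      show π p * π q = π q * π p
      rw [← map_mul, ← map_mul, hπeq]
      rcases C.frame.x2.conj_cases hq hp with r | r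
      · exact Or.inl (mul_inv_eq_iff_eq_mul.1 r)
      · exact Or.inr ((mul_inv_eq_iff_eq_mul.1 r).trans (mul_assoc _ _ _))
    · rintro _ ⟨p, hp, rfl⟩
      rw [pow_two, ← map_mul]
      rcases C.frame.x2.sq p hp with r | r <;> rw [r]
      · exact map_one π
      · exact hπz
  have ht1 : ψ ⟨v, C.v_mem⟩ = Cfsg.Lib.AltEightType.a1 := Subtype.ext (C.σ_v.1.trans (by decide +kernel))
  have ht2 : ψ ⟨w, C.w_mem⟩ = Cfsg.Lib.AltEightType.a2 := Subtype.ext (C.σ_v.2.trans (by decide +kernel))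
  have hzS : zpowers z ≤ (S : Subgroup H) := zpowers_le.2 C.M.z_mem
  have hcenter : Nat.card (Subgroup.center (S' : Subgroup (H ⧸ zpowers z))) ≤ 2 := by
    have hsub : ∀ x : Subgroup.center (S' : Subgroup (H ⧸ zpowers z)),
        (((x : ↥(S' : Subgroup (H ⧸ zpowers z))) : H ⧸ zpowers z)) = 1 ∨
        (((x : ↥(S' : Subgroup (H ⧸ zpowers z))) : H ⧸ zpowers z)) = π (e (ac 4)) := by
      rintro ⟨⟨x, hx⟩, hc⟩
      obtain ⟨s, hs, rfl⟩ := (hS'coe ▸ hx : x ∈ (S : Subgroup H).map π)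
      obtain ⟨X, rfl⟩ := C.M.surj s hs
      have h : ∀ Y : SC, InZ (comm' X Y) := fun Y => by
        have h1 := congrArg Subtype.val (Subgroup.mem_center_iff.1 hc ⟨π (e Y), hS'coe ▸ mem_map_of_mem π (C.M.mem Y)⟩)
        change π (e Y) * π (e X) = π (e X) * π (e Y) at h1
        rw [← C.M.inZ_iff, ← C.comm_code, ← C.mem_zp]
        refine (QuotientGroup.eq_one_iff _).1 ?_
        show π (e X * e Y * (e X)⁻¹ * (e Y)⁻¹) = 1
        rw [map_mul, map_mul, map_mul, ← h1, map_inv, map_inv, mul_inv_cancel_right, mul_inv_cancel]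
      show π (e X) = 1 ∨ π (e X) = π (e (ac 4))
      rcases (C.M.inU_iff X).2 (second_center X (h _) (h _) (h _)) with r | r | r | r <;> rw [r]
      · exact Or.inl (map_one π)
      · exact Or.inl hπz
      · exact Or.inr rfl
      · exact Or.inr (by rw [map_mul, hπz, one_mul])
    let φ : Subgroup.center (S' : Subgroup (H ⧸ zpowers z)) → Bool := fun x =>
      decide ((((x : ↥(S' : Subgroup (H ⧸ zpowers z))) : H ⧸ zpowers z)) = 1)
    have hφ : Function.Injective φ := by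
      intro x y h
      simp only [φ, decide_eq_decide] at h
      refine Subtype.ext (Subtype.ext ?_)
      rcases hsub x with r | r <;> rcases hsub y with r' | r'
      · rw [r, r']
      · rw [h.1 r, r]
      · rw [r', h.2 r']
      · rw [r, r']
    exact (Nat.card_le_card_of_injective φ hφ).trans (by simp)
  have hker0 : ∀ c : ↥C.N, ψ c = 1 → ∀ b ∈ C.Q, π ((c : H) * b * (c : H)⁻¹) = π b := by
    intro c hc b hb
    obtain ⟨q, hq, hqc⟩ := C.σ_one_decomp (congrArg Subtype.val hc)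
    have h1 : q * c * b * (q * c)⁻¹ = b := by rw [← mem_centralizer_iff.1 hqc b hb, mul_inv_cancel_right]
    have h2 : (c : H) * b * (c : H)⁻¹ = q⁻¹ * b * q := by
      nth_rw 2 [← h1]; group
    rw [h2]
    rcases C.frame.x2.conj_cases (inv_mem hq) hb with r | r <;> rw [inv_inv] at r <;> rw [r]
    rw [map_mul, hπz, one_mul]
  -- the classes of involutions
  have conjS : ∀ x : H ⧸ zpowers z, orderOf x = 2 → ∃ X : SC, IsConj (π (e X)) x := by
    intro x hx
    obtain ⟨d, hd⟩ := Cfsg.Lib.InvolCalc.exists_conj_le S'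
      (IsPGroup.of_card (n := 1) (by rw [Nat.card_zpowers, hx, pow_one]) : IsPGroup 2 (zpowers x))
    obtain ⟨s, hs, h⟩ := (hS'coe ▸ hd x (mem_zpowers x) : d⁻¹ * x * d ∈ (S : Subgroup H).map π)
    obtain ⟨X, rfl⟩ := C.M.surj s hs
    exact ⟨X, h ▸ isConj_iff.2 ⟨d, by group⟩⟩
  have hnconj : ∀ (n : ↥C.N) (x y : H), Cls z ((n : H) * x * (n : H)⁻¹) y → IsConj (π x) (π y) := by
    intro n x y h
    refine isConj_iff.2 ⟨π n, ?_⟩
    rw [← map_inv, ← map_mul, ← map_mul]
    rcases h with r | r <;> rw [r]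
    rw [map_mul, hπz, one_mul]
  have hmapcls : ∀ x y : H, Cls z x y → π x = π y := by
    rintro x y (r | r) <;> rw [r]
    rw [map_mul, hπz, one_mul]
  set r₁ := π (e (ac 4)) with hr₁
  set r₂ := π (e b01) with hr₂
  set r₃ := π (e vc) with hr₃
  have hcases : ∀ x : H ⧸ zpowers z, orderOf x = 2 → IsConj r₁ x ∨ IsConj r₂ x ∨ IsConj r₃ x := by
    intro x hx
    obtain ⟨X, hXc⟩ := conjS x hx
    have hne : π (e X) ≠ 1 := fun h => by
      obtain ⟨g, hg⟩ := isConj_iff.1 hXc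
      rw [h, mul_one, mul_inv_cancel] at hg
      rw [← hg, orderOf_one] at hx
      omega
    have hsq : InZ (smul' X X) := by
      obtain ⟨g, hg⟩ := isConj_iff.1 hXc
      rw [← C.M.inZ_iff, ← C.M.mul, ← C.mem_zp]
      refine (QuotientGroup.eq_one_iff _).1 ?_
      show π (e X * e X) = 1
      rw [map_mul, show π (e X) = g⁻¹ * x * g by rw [← hg]; group,
        show g⁻¹ * x * g * (g⁻¹ * x * g) = g⁻¹ * (x * x) * g by group, ← pow_two x, ← hx, pow_orderOf_eq_one]
      group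
    suffices IsConj r₁ (π (e X)) ∨ IsConj r₂ (π (e X)) ∨ IsConj r₃ (π (e X)) by
      exact this.imp (fun h => h.trans hXc) (fun h => h.imp (fun h => h.trans hXc) fun h => h.trans hXc)
    by_cases hout : X.2.1 = true ∨ X.2.2 = true
    · refine Or.inr (Or.inr (IsConj.symm ?_))
      have hXX := outer_sq X hout hsq
      set s : ↥C.N := ⟨e X, C.S_le_N (C.M.mem X)⟩
      have hV : C.σ s ∈ vFour := by rw [C.σ_code]; exact bp_vFour _ _
      have hne1 : C.σ s ≠ 1 := by
        rw [C.σ_code]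
        obtain ⟨x, p, r⟩ := X
        revert hout
        cases p <;> cases r <;> simp [bp] <;> decide +kernel
      obtain ⟨ρ, hρ, hρs⟩ := exists_rho.1 _ (vFour_facts hV).2 (vFour_facts hV).1 hne1
      obtain ⟨n, hn⟩ : ρ ∈ C.σ.range := C.σ_range ▸ Perm.mem_alternatingGroup.2 hρ
      set y : ↥C.N := n * s * n⁻¹ with hy
      have hσy : C.σ y = Cfsg.Lib.HallJankoType.tau1 := by rw [hy, map_mul, map_mul, map_inv, hn, hρs]
      set M1 := vFour.comap C.σ with hM1
      have hSM : (S : Subgroup H).subgroupOf C.N ≤ M1 := fun t ht => by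
        obtain ⟨T, hT⟩ := C.M.surj _ (mem_subgroupOf.1 ht)
        have h : t = ⟨e T, C.S_le_N (C.M.mem T)⟩ := Subtype.ext hT.symm
        show C.σ t ∈ vFour
        rw [h, C.σ_code]; exact bp_vFour _ _
      have hyM : y ∈ M1 := by
        show C.σ y ∈ vFour
        rw [hσy]; exact Or.inr (Or.inl rfl)
      obtain ⟨d, hd⟩ := Cfsg.Lib.InvolCalc.exists_conj_le ((S.subtype C.S_le_N).subtype hSM)
        (H := zpowers (⟨y, hyM⟩ : ↥M1))
        (IsPGroup.of_card (n := 1) (by
          rw [Nat.card_zpowers, ← Subgroup.orderOf_coe]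
          show orderOf y = 2 ^ 1
          rw [hy, ← MulAut.conj_apply, MulEquiv.orderOf_eq, pow_one]
          refine orderOf_eq_prime (Subtype.ext ?_) (fun h => hne1 (by rw [h, map_one]))
          show (((e X) : H) ^ 2) = 1
          rw [pow_two]; exact (C.M.sq_iff X).2 hXX))
      have hd' := hd _ (mem_zpowers _)
      obtain ⟨Y, hY⟩ := C.M.surj (((d : ↥C.N) : H)⁻¹ * (y : H) * ((d : ↥C.N) : H)) hd'
      have hσY : C.σ ⟨e Y, C.S_le_N (C.M.mem Y)⟩ = Cfsg.Lib.HallJankoType.tau1 := by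
        have h : (⟨e Y, C.S_le_N (C.M.mem Y)⟩ : ↥C.N) = (d : ↥C.N)⁻¹ * y * (d : ↥C.N) := Subtype.ext hY
        have hdV : C.σ ((d : ↥C.N)⁻¹) ∈ vFour := by rw [map_inv]; exact inv_mem d.2
        rw [h, map_mul, map_mul, hσy]
        have := vFour_comm hdV (Or.inr (Or.inl rfl) : Cfsg.Lib.HallJankoType.tau1 ∈ vFour)
        rw [map_inv, inv_inv] at this
        rw [map_inv]
        exact this
      rw [C.σ_code] at hσY
      obtain ⟨hp, hr⟩ := bp_eq_tau _ _ hσY
      have hY2 : Y.2 = vc.2 := Prod.ext hp hr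
      have hYY : smul' Y Y = one' := (C.M.sq_iff Y).1 (by
        rw [hY, hy]
        simp only [coe_mul, InvMemClass.coe_inv]
        rw [show ((d : ↥C.N) : H)⁻¹ * ((n : H) * e X * (n : H)⁻¹) * ((d : ↥C.N) : H) =
          (((d : ↥C.N) : H)⁻¹ * n) * e X * (((d : ↥C.N) : H)⁻¹ * n)⁻¹ by group]
        exact conj_sq_one ((C.M.sq_iff X).2 hXX))
      obtain ⟨q, hq⟩ := conj_coset Y hY2 hYY
      have h1 : IsConj (π (e X)) (π (e Y)) := isConj_iff.2 ⟨π (((d : ↥C.N) : H)⁻¹ * n), by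
        rw [← map_inv, ← map_mul, ← map_mul, hY, hy]
        simp only [coe_mul, InvMemClass.coe_inv]
        rw [show ((s : ↥C.N) : H) = e X from rfl]
        congr 1; group⟩
      refine h1.trans ?_
      have h2 := (C.M.eqZ_iff _ _).2 hq
      rw [← C.M.mul, ← C.M.mul, ← C.M.inv_ev] at h2
      exact hnconj ⟨e (q, false, false), C.S_le_N (C.M.mem _)⟩ _ _ h2
    · have hX2 : X.2 = (false, false) := by
        obtain ⟨x, p, r⟩ := X
        cases p <;> cases r <;> simp_all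
      rcases C.frame.cls _ (C.mem_Q.2 hX2) with r | ⟨i, r⟩ | ⟨i, j, hij, r⟩
      · exact absurd ((hmapcls _ _ r).trans (map_one π)) hne
      · left
        rw [hmapcls _ _ r]
        obtain ⟨ρ, hρ, hρi⟩ := even_to_four i
        obtain ⟨n, hn⟩ : ρ ∈ C.σ.range := C.σ_range ▸ Perm.mem_alternatingGroup.2 hρ
        have h := C.σ_act n i
        rw [hn, hρi] at h
        refine (hnconj n _ _ ?_).symm
        rw [C.M.ev_ac4]; exact h
      · right; left
        rw [hmapcls _ _ r]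
        obtain ⟨ρ, hρ⟩ := exists_rho.2 i j hij.ne
        have hsign : Perm.sign ρ = 1 := hρ.elim (fun h => h.1) fun h => h.1
        obtain ⟨n, hn⟩ : ρ ∈ C.σ.range := C.σ_range ▸ Perm.mem_alternatingGroup.2 hsign
        have hi := C.σ_act n i
        have hj := C.σ_act n j
        rw [hn] at hi hj
        have hprod : π ((n : H) * (pts5 z a i * pts5 z a j) * (n : H)⁻¹) =
            π (pts5 z a (ρ i)) * π (pts5 z a (ρ j)) := by
          rw [show (n : H) * (pts5 z a i * pts5 z a j) * (n : H)⁻¹ =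
            ((n : H) * pts5 z a i * (n : H)⁻¹) * ((n : H) * pts5 z a j * (n : H)⁻¹) by group, map_mul,
            hmapcls _ _ hi, hmapcls _ _ hj]
        have hb : r₂ = π (pts5 z a 0) * π (pts5 z a 1) := by
          rw [hr₂, ← map_mul, pts5, pts5, C.M.cliff.mul]
          simp [ev7, b01, bp]
        have h2 : π ((n : H) * (pts5 z a i * pts5 z a j) * (n : H)⁻¹) = r₂ := by
          rw [hprod, hb]
          rcases hρ with ⟨-, ei, ej⟩ | ⟨-, ei, ej⟩ <;> rw [ei, ej]
          exact congrArg Subtype.val (hEl.1.is_comm.comm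
            (⟨_, mem_map_of_mem π (C.frame.mem 1)⟩ : A') ⟨_, mem_map_of_mem π (C.frame.mem 0)⟩)
        exact (isConj_iff.2 ⟨π n, by rw [← map_inv, ← map_mul, ← map_mul, h2]⟩ : IsConj (π _) r₂).symm
  have hr : ∀ X : SC, ¬ InZ X → InZ (smul' X X) → orderOf (π (e X)) = 2 := fun X h1 h2 => by
    refine orderOf_eq_prime ?_ fun h => h1 ((C.M.inZ_iff X).1 (C.mem_zp.1 ((QuotientGroup.eq_one_iff _).1 h)))
    rw [pow_two, ← map_mul, C.M.mul]
    exact (QuotientGroup.eq_one_iff _).2 (C.mem_zp.2 ((C.M.inZ_iff _).2 h2))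
  have hsqconj : ∀ X Y : SC, IsConj (π (e X)) (π (e Y)) → ∃ g : H, Cls z (g * e X * g⁻¹) (e Y) := by
    intro X Y h
    obtain ⟨c, hc⟩ := isConj_iff.1 h
    obtain ⟨g, rfl⟩ := hπs c
    rw [← map_inv, ← map_mul, ← map_mul, hπeq] at hc
    refine ⟨g, ?_⟩
    rcases hc with r | r
    · exact Or.inl r.symm
    · exact C.frame.cls_symm (Or.inr r)
  have hd12 : ¬ IsConj r₁ r₂ := fun h => by
    obtain ⟨g, hg⟩ := hsqconj _ _ h
    have h1 : e b01 * e b01 = 1 := by
      have h4 : e (ac 4) * e (ac 4) = 1 := (C.M.sq_iff _).2 (by decide +kernel)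
      rcases C.frame.cls_symm hg with r | r <;> rw [r]
      · exact conj_sq_one h4
      · rw [(C.cen _).mul_mul_mul_comm, C.M.cliff.zz, one_mul]; exact conj_sq_one h4
    exact absurd ((C.M.sq_iff _).1 h1) (by decide +kernel)
  have hd3 : ∀ X : SC, X.2 = (false, false) → ¬ IsConj (π (e X)) r₃ := fun X hX h => by
    obtain ⟨g, hg⟩ := hsqconj _ _ h.symm
    refine C.not_into_Q (X := vc) (Or.inl rfl) (by decide +kernel) g ?_
    rcases hg with r | r <;> rw [r]
    · exact C.mem_Q.2 hX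
    · exact mul_mem C.frame.x2.mem (C.mem_Q.2 hX)
  have h3 : Nat.card {c : ConjClasses (H ⧸ zpowers z) // ∃ x ∈ c.carrier, orderOf x = 2} = 3 := by
    have hset : {c : ConjClasses (H ⧸ zpowers z) | ∃ x ∈ c.carrier, orderOf x = 2} =
        {ConjClasses.mk r₁, ConjClasses.mk r₂, ConjClasses.mk r₃} := by
      ext c
      constructor
      · rintro ⟨x, hx, hx2⟩
        rw [ConjClasses.mem_carrier_iff_mk_eq] at hx
        rw [← hx]
        simp only [Set.mem_insert_iff, Set.mem_singleton_iff, ConjClasses.mk_eq_mk_iff_isConj]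
        rcases hcases x hx2 with r | r | r
        exacts [Or.inl r.symm, Or.inr (Or.inl r.symm), Or.inr (Or.inr r.symm)]
      · rintro (rfl | rfl | rfl)
        exacts [⟨r₁, ConjClasses.mem_carrier_mk, hr _ (by decide +kernel) (by decide +kernel)⟩,
          ⟨r₂, ConjClasses.mem_carrier_mk, hr _ (by decide +kernel) (by decide +kernel)⟩,
          ⟨r₃, ConjClasses.mem_carrier_mk, hr _ (by decide +kernel) (by decide +kernel)⟩]
    show Nat.card ↥{c : ConjClasses (H ⧸ zpowers z) | ∃ x ∈ c.carrier, orderOf x = 2} = 3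
    rw [hset, Nat.card_coe_set_eq, Set.ncard_eq_three]
    refine ⟨_, _, _, ?_, ?_, ?_, rfl⟩ <;> rw [Ne, ConjClasses.mk_eq_mk_iff_isConj]
    exacts [hd12, hd3 _ rfl, hd3 _ rfl]
  let X : Cfsg.Lib.AltEightType.Ctx S' A' :=
    { card_S := by
        have := hcard2 S hzS
        rw [C.M.card] at this
        rw [hS'coe]; omega
      card_A := hA'16
      hA := hEl
      center := hcenter
      AS := hAs
      SN := by
        intro y hy
        rw [hS'coe] at hy
        obtain ⟨s, hs, rfl⟩ := hy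
        exact (hmemN s).2 (C.S_le_N hs)
      π := πA
      π_surj := fun y => by
        obtain ⟨c, hc⟩ : (y : Perm (Fin 5)) ∈ C.σ.range := by rw [C.σ_range]; exact y.2
        exact ⟨f c, (hπA c).trans (Subtype.ext hc)⟩
      π_ker := fun n hn b hb => by
        obtain ⟨c, rfl⟩ := hf n
        obtain ⟨q, hq, rfl⟩ := hb
        rw [hπA] at hn
        show π c * π q * (π c)⁻¹ = π q
        rw [← map_inv, ← map_mul, ← map_mul]
        exact hker0 c hn q hq
      π_A := fun n hn => by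
        obtain ⟨c, rfl⟩ := hf n
        obtain ⟨q, hq, h⟩ := hn
        rw [hπA]
        refine Subtype.ext (C.σ_Q ?_)
        rcases (hπeq q c).1 h with r | r <;> rw [r]
        · exact hq
        · exact mul_mem C.frame.x2.mem hq
      π_S := fun s hs => by
        obtain ⟨c, rfl⟩ := hf s
        rw [hS'coe] at hs
        obtain ⟨t, ht, h⟩ := hs
        have hfc : f c = f ⟨t, C.S_le_N ht⟩ := Subtype.ext h.symm
        obtain ⟨T, rfl⟩ := C.M.surj t ht
        rw [hfc, hπA]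
        show ψ ⟨e T, C.S_le_N ht⟩ ∈ V0
        have : ψ ⟨e T, C.S_le_N ht⟩ = bp Cfsg.Lib.AltEightType.a1 T.2.1 * bp Cfsg.Lib.AltEightType.a2 T.2.2 :=
          Subtype.ext ((C.σ_code T).trans (bp_coe _ _))
        rw [this]
        exact mul_mem (bp_mem (Or.inr (Or.inl rfl)) _) (bp_mem (Or.inr (Or.inr (Or.inl rfl))) _)
      π_S_surj := fun u hu => by
        have hv : (f ⟨v, C.v_mem⟩ : H ⧸ zpowers z) ∈ (S' : Subgroup (H ⧸ zpowers z)) :=
          by rw [hS'coe]; exact mem_map_of_mem π ((congrArg (fun x => x ∈ (S : Subgroup H)) C.M.ev_vc).mp (C.M.mem vc))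
        have hw : (f ⟨w, C.w_mem⟩ : H ⧸ zpowers z) ∈ (S' : Subgroup (H ⧸ zpowers z)) :=
          by rw [hS'coe]; exact mem_map_of_mem π ((congrArg (fun x => x ∈ (S : Subgroup H)) C.M.ev_wc).mp (C.M.mem wc))
        rcases hu with rfl | rfl | rfl | rfl
        · exact ⟨1, one_mem _, map_one _⟩
        · exact ⟨_, hv, (hπA _).trans ht1⟩
        · exact ⟨_, hw, (hπA _).trans ht2⟩
        · exact ⟨f ⟨v, C.v_mem⟩ * f ⟨w, C.w_mem⟩, by simpa using mul_mem hv hw, by rw [map_mul, hπA, hπA, ht1, ht2]⟩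
      h3 := h3 }
  have hn := X.normal_sup
  have hO : Cfsg.oddCore (H ⧸ zpowers z) = ⊥ := by
    set O := Cfsg.oddCore (H ⧸ zpowers z) with hOdef
    haveI hOn : O.Normal := inferInstance
    set L := O.comap π with hL
    have hzL : zpowers z ≤ L := hker ▸ (MonoidHom.comap_bot π ▸ comap_mono bot_le)
    have hOodd : Odd (Nat.card O) := Cfsg.Lib.AltEightType.odd_oddCore _
    have hidx : ¬ 2 ∣ ((zpowers z).subgroupOf L).index := by
      have h1 : ((zpowers z).subgroupOf L).index = Nat.card O := by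
        show (zpowers z).relIndex L = _
        refine (congrArg (fun U => U.relIndex L) (hker.symm.trans (MonoidHom.comap_bot π).symm)).trans ?_
        rw [relIndex_comap, hL, map_comap_eq_self_of_surjective hπs, relIndex_bot_left]
      rw [h1]; exact hOodd.not_two_dvd_nat
    obtain ⟨K, hK, hKm⟩ := Cfsg.Lib.RuSylow.exists_normal_odd_complement
      (((S.2.to_le hzS).of_equiv (subgroupOfEquivOfLe hzL).symm).toSylow hidx) (by
        intro x _
        refine mem_centralizer_iff.2 fun y hy => Subtype.ext ?_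
        obtain ⟨i, hi⟩ := mem_zpowers_iff.1 (mem_subgroupOf.1 hy)
        show (y : H) * x = x * y
        rw [← hi]
        exact ((C.cen x).symm.zpow_left i).eq)
    have hKo : ∀ x, x ∈ K.map L.subtype ↔ x ∈ L ∧ Odd (orderOf x) := fun x => ⟨by
        rintro ⟨y, hy, rfl⟩
        exact ⟨y.2, hK.of_dvd_nat ((dvd_of_eq (orderOf_coe y)).trans (Subgroup.orderOf_dvd_natCard _ hy))⟩,
      fun ⟨hx, hxo⟩ => ⟨⟨x, hx⟩, hKm _ (by rwa [orderOf_mk]), rfl⟩⟩
    have hK1 : K.map L.subtype = ⊥ := C.core _ ⟨fun k hk g => by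
        obtain ⟨h1, h2⟩ := (hKo k).1 hk
        exact (hKo _).2 ⟨(inferInstance : L.Normal).conj_mem k h1 g,
          by rw [← MulAut.conj_apply, MulEquiv.orderOf_eq]; exact h2⟩⟩
      (by rwa [card_map_of_injective L.subtype_injective])
    refine (eq_bot_iff_forall _).2 fun y hy => ?_
    obtain ⟨x, rfl⟩ := hπs y
    obtain ⟨p, b, hp, hb, hpb, ⟨i, hi⟩, hbo⟩ := Cfsg.Lib.Transfer.exists_pPart 2 x
    have hZ : zpowers x ≤ L := zpowers_le.2 hy
    have hb1 : b = 1 := by
      have : b ∈ K.map L.subtype := (hKo b).2 ⟨hZ hb, Nat.coprime_two_right.1 hbo⟩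
      rwa [hK1, mem_bot] at this
    rw [← hpb, hb1, mul_one]
    refine orderOf_eq_one_iff.1 (Nat.eq_one_of_dvd_coprimes
      (Nat.Coprime.pow_left i (Nat.coprime_two_left.2 hOodd)) ((orderOf_map_dvd π p).trans (dvd_of_eq hi))
      (Subgroup.orderOf_dvd_natCard _ (hZ hp : π p ∈ O)))
  rw [hO, sup_bot_eq] at hn
  have h := hn.comap π
  rwa [hA', Subgroup.comap_map_eq, hker, sup_eq_left.2 C.zpowers_le_Q] at h

/-- The conclusion: centraliser data. -/
theorem exists_data : ∃ (Q : Subgroup H) (b : Fin 5 → H) (σ : Cz z →* Perm (Fin 5)) (y : H),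
    Data z Q b σ ∧ Outer z Q y := by
  have hQ := C.normal_Q
  have hN : ∀ g : H, g ∈ C.N := fun g => by rw [show C.N = ⊤ from normalizer_eq_top_iff.2 hQ]; exact mem_top _
  let ι : Cz z →* ↥C.N :=
    { toFun := fun c => ⟨c, hN c⟩
      map_one' := rfl
      map_mul' := fun _ _ => rfl }
  have hcz : ∀ g : H, g ∈ Cz z := fun g => mem_Cz.2 (C.cen g)
  refine ⟨C.Q, pts5 z a, C.σ.comp ι, v,
    { frame := C.frame
      cen := fun x hx => C.odd_elem_centralizer_trivial hQ hx
      le := fun q _ => hcz q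
      norm := fun c _ q hq => hQ.conj_mem q hq c
      act := fun c i => C.σ_act (ι c) i
      ker := fun c => ⟨fun h => ?_, fun h => C.σ_Q (c := ι c) h⟩
      sign := fun c => Perm.mem_alternatingGroup.1 (C.σ_range ▸ ⟨ι c, rfl⟩)
      surj := fun π hπ => ?_ }, hcz v, C.M.vv, fun h => ?_⟩
  · obtain ⟨q, hq, hqc⟩ := C.σ_one_decomp (c := ι c) h
    have := mul_mem (inv_mem hq) (C.odd_elem_centralizer_trivial hQ hqc)
    simpa [ι] using this
  · obtain ⟨n, hn⟩ : π ∈ C.σ.range := C.σ_range ▸ Perm.mem_alternatingGroup.2 hπ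
    exact ⟨⟨n, hcz n⟩, hn⟩
  · exact absurd (C.mem_Q.1 ((congrArg (fun x => x ∈ C.Q) C.M.ev_vc).mpr h)) (by decide)

end Loc

end Cfsg.Lib.JTwoSyl
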