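import Cfsg.Agent.JTwoSyl.Model
import Cfsg.Agent.LocalThree.HallJankoType.Involutions
import Cfsg.Agent.M24Nse.EndgameStab

/-!
The centraliser data in coordinates: exact lifts of the alternating group, and uniqueness.
-/

set_option autoImplicit false
set_option linter.unusedSectionVars false
set_option linter.style.haveILetI false
set_option synthInstance.maxSize 4096
set_option synthInstance.maxHeartbeats 400000

namespace Cfsg.Lib.JTwoSyl

open Subgroup Equiv Cfsg.Lib.HallJankoType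

variable {G : Type*} [Group G] [Finite G]

/-- Coordinates for `Q`. -/
structure QModel (Q : Subgroup G) (z : G) (a : Fin 4 → G) : Prop where
  cliff : Cliff z a
  mem : ∀ x, ev5 z a x ∈ Q
  surj : ∀ q ∈ Q, ∃ x, ev5 z a x = q
  inj : Function.Injective (ev5 z a)

/-- The five points in coordinates. -/
def pts5 (z : G) (a : Fin 4 → G) (i : Fin 5) : G := ev5 z a (qa i)

namespace QModel

variable {Q : Subgroup G} {z : G} {a : Fin 4 → G} (h : QModel Q z a)
include h

theorem card : Nat.card Q = 32 := by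
  rw [← Nat.card_congr (Equiv.ofBijective (fun x : QC => (⟨ev5 z a x, h.mem x⟩ : Q))
    ⟨fun x y e => h.inj (congrArg Subtype.val e), fun q => ?_⟩), Nat.card_eq_fintype_card]
  · rfl
  · obtain ⟨x, hx⟩ := h.surj q q.2
    exact ⟨x, Subtype.ext hx⟩

theorem z_mul (x : QC) : z * ev5 z a x = ev5 z a (qmul qz x) := by
  have := h.cliff.mul qz x
  rwa [h.cliff.ev_z] at this

theorem mul_z (x : QC) : ev5 z a x * z = ev5 z a (qmul x qz) := by
  have := h.cliff.mul x qz
  rwa [h.cliff.ev_z] at this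

theorem eq_z_iff (x : QC) : ev5 z a x = z ↔ x = qz := by
  conv_lhs => rhs; rw [← h.cliff.ev_z]
  exact h.inj.eq_iff

theorem eq_one_iff (x : QC) : ev5 z a x = 1 ↔ x = q1 := by
  rw [← h.cliff.ev_one]; exact h.inj.eq_iff

theorem cls_iff (x y : QC) : Cls z (ev5 z a x) (ev5 z a y) ↔ x = y ∨ x = qmul qz y := by
  unfold Cls
  rw [h.inj.eq_iff]
  rw [h.z_mul, h.inj.eq_iff]

theorem x2 : Cfsg.Lib.LargeExtra.X2 Q z where
  mem := h.cliff.ev_z ▸ h.mem qz
  ne e := absurd (h.inj (by rw [h.cliff.ev_z, h.cliff.ev_one, e] : ev5 z a qz = ev5 z a q1)) (by decide)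
  zz := h.cliff.zz
  isP := IsPGroup.of_card (n := 5) h.card
  central q hq := by
    obtain ⟨x, rfl⟩ := h.surj q hq
    show _ * _ = _ * _
    rw [h.mul_z, h.z_mul]
    congr 1
    clear hq
    revert x; decide
  comm p hp q hq := by
    obtain ⟨x, rfl⟩ := h.surj p hp
    obtain ⟨y, rfl⟩ := h.surj q hq
    rw [commutatorElement_def, mul_inv_eq_iff_eq_mul, mul_inv_eq_iff_eq_mul, mul_inv_eq_iff_eq_mul,
      mul_inv_eq_iff_eq_mul, one_mul, mul_assoc z, h.cliff.mul, h.cliff.mul, h.z_mul,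
      h.inj.eq_iff, h.inj.eq_iff]
    exact q_comm x y
  sq p hp := by
    obtain ⟨x, rfl⟩ := h.surj p hp
    rw [h.cliff.mul, h.eq_one_iff, h.eq_z_iff]
    exact q_sq x
  cen p hp hc := by
    obtain ⟨x, rfl⟩ := h.surj p hp
    rw [h.eq_one_iff, h.eq_z_iff]
    refine q_cen x fun y => h.inj ?_
    rw [← h.cliff.mul, ← h.cliff.mul]
    exact (hc _ (h.mem y)).eq

theorem frame : Frame z Q (pts5 z a) where
  x2 := h.x2
  card := h.card
  mem i := h.mem _
  sq i := by rw [pts5, h.cliff.mul, (qa_facts i).1, h.cliff.ev_one]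
  ne1 i e := by
    rw [pts5, ← h.cliff.ev_one, h.cls_iff] at e
    rcases e with e | e
    · exact (qa_facts i).2.1 e
    · exact (qa_facts i).2.2.1 (e.trans (by decide))
  inj i j hij e := by
    rw [pts5, pts5, h.cls_iff] at e
    rcases e with e | e
    · exact ((qa_facts i).2.2.2 j hij).1 e
    · exact ((qa_facts i).2.2.2 j hij).2.1 e
  anti i j hij := by
    simp only [pts5]
    rw [h.cliff.mul, h.cliff.mul, ((qa_facts i).2.2.2 j hij).2.2, ← h.cliff.mul qz, h.cliff.ev_z]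
  pts q hq e := by
    obtain ⟨x, rfl⟩ := h.surj q hq
    rw [h.cliff.mul, ← h.cliff.ev_one, h.inj.eq_iff] at e
    rw [← h.cliff.ev_one, h.cls_iff]
    simp only [pts5, h.cls_iff]
    rcases qa_pts x e with (r | r) | r
    · exact Or.inl (Or.inl r)
    · exact Or.inl (Or.inr (r.trans (by decide)))
    · exact Or.inr r
  cls q hq := by
    obtain ⟨x, rfl⟩ := h.surj q hq
    rw [← h.cliff.ev_one, h.cls_iff]
    simp only [pts5, h.cliff.mul, h.cls_iff]
    rcases qa_cls x with (r | r) | r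
    · exact Or.inl (Or.inl r)
    · exact Or.inl (Or.inr (r.trans (by decide)))
    · exact Or.inr r
  pair i j k l hij hkl e := by
    simp only [pts5, h.cliff.mul, h.cls_iff] at e
    exact qa_pair i j k l hij hkl e
  sum i j k l m hn := by
    simp only [pts5, h.cliff.mul, h.cls_iff]
    exact qa_sum i j k l m hn

end QModel

/-- The product of the images of the generators. -/
def qperm (π : Perm (Fin 5)) (x : QC) : QC :=
  qmul (if x.1 then qz else q1) (qmul (if x.2.1 then qa (π 0) else q1) (qmul (if x.2.2.1 then qa (π 1) else q1)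
    (qmul (if x.2.2.2.1 then qa (π 2) else q1) (if x.2.2.2.2 then qa (π 3) else q1))))

theorem qperm_qa : ∀ π : Perm (Fin 5), Perm.sign π = 1 → ∀ i, qperm π (qa i) = qa (π i) := by decide +kernel

theorem qperm_one : ∀ x, qperm 1 x = x := by decide +kernel

theorem qperm_tau : (∀ x, qperm tau1 x = qv x) ∧ ∀ x, qperm tau2 x = qw x := by decide +kernel

/-- The four group on four points. -/
def vFour : Subgroup (Perm (Fin 5)) where
  carrier := {π | π = 1 ∨ π = tau1 ∨ π = tau2 ∨ π = tau1 * tau2}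
  one_mem' := Or.inl rfl
  mul_mem' := by
    rintro π ρ (rfl | rfl | rfl | rfl) (rfl | rfl | rfl | rfl) <;> decide +kernel
  inv_mem' := by
    rintro π (rfl | rfl | rfl | rfl) <;> decide +kernel

theorem vFour_facts {π : Perm (Fin 5)} (h : π ∈ vFour) : π * π = 1 ∧ Perm.sign π = 1 := by
  rcases h with rfl | rfl | rfl | rfl <;> decide +kernel

/-- Exact action on the points. -/
def Exact (z : G) (a : Fin 4 → G) (π : Perm (Fin 5)) (c : G) : Prop :=
  ∀ i, c * pts5 z a i * c⁻¹ = pts5 z a (π i)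

/-- The normalised data. -/
structure Std (z : G) (Q : Subgroup G) (a : Fin 4 → G) (σ : Cz z →* Perm (Fin 5)) : Prop where
  qm : QModel Q z a
  data : Data z Q (pts5 z a) σ

theorem exists_std {z : G} {Q : Subgroup G} {b : Fin 5 → G} {σ : Cz z →* Perm (Fin 5)} (D : Data z Q b σ) :
    ∃ a, Std z Q a σ := by
  have F := D.frame
  set a : Fin 4 → G := fun i => b i.castSucc with ha
  have hC : Cliff z a := ⟨F.x2.zz, fun i => F.zc (F.mem _), fun i => F.sq _,
    fun i j hij => F.anti _ _ (fun e => hij.ne (Fin.castSucc_injective _ e))⟩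
  have hmem : ∀ x, ev5 z a x ∈ Q := by
    rintro ⟨s, i, j, k, l⟩
    exact mul_mem (bp_mem F.x2.mem _) (mul_mem (bp_mem (F.mem _) _) (mul_mem (bp_mem (F.mem _) _)
      (mul_mem (bp_mem (F.mem _) _) (bp_mem (F.mem _) _))))
  have hone : ∀ x, ev5 z a x = 1 → x = q1 := by
    intro x hx
    have key : ∀ i : Fin 4, qmul (qmul x (qa i.castSucc)) (qmul x (qmul x x)) = qa i.castSucc := by
      intro i
      have hcode : ∀ (x : QC) (i : Fin 4), qmul (qmul x (qa i.castSucc)) (qmul x (qmul x x)) = qa i.castSucc ∨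
          qmul (qmul x (qa i.castSucc)) (qmul x (qmul x x)) = qmul qz (qa i.castSucc) := by decide +kernel
      refine (hcode x i).resolve_right fun e => F.x2.ne ?_
      have := congrArg (ev5 z a) e
      rw [← hC.mul, ← hC.mul, ← hC.mul, ← hC.mul, ← hC.mul qz, hC.ev_z, hC.ev_a, hx] at this
      simpa using this
    have hcode : ∀ x : QC, (∀ i : Fin 4, qmul (qmul x (qa i.castSucc)) (qmul x (qmul x x)) = qa i.castSucc) →
        x = q1 ∨ x = qz := by decide +kernel
    rcases hcode x key with e | e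
    · exact e
    · exact absurd (by rw [← hC.ev_z, ← e, hx]) F.x2.ne
  have hinj : Function.Injective (ev5 z a) := by
    intro x y e
    have := hone (qmul (qmul x (qmul x x)) y) (by rw [← hC.mul, ← hC.inv_ev, e, inv_mul_cancel])
    revert this
    clear e
    revert x y
    decide +kernel
  have hsurj : ∀ q ∈ Q, ∃ x, ev5 z a x = q := by
    intro q hq
    have hb : Function.Bijective fun x : QC => (⟨ev5 z a x, hmem x⟩ : Q) :=
      (Nat.bijective_iff_injective_and_card _).2 ⟨fun x y e => hinj (congrArg Subtype.val e), by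
        rw [F.card, Nat.card_eq_fintype_card]; rfl⟩
    obtain ⟨x, hx⟩ := hb.2 ⟨q, hq⟩
    exact ⟨x, congrArg Subtype.val hx⟩
  have hm : QModel Q z a := ⟨hC, hmem, hsurj, hinj⟩
  have hcls : ∀ i, Cls z (pts5 z a i) (b i) := by
    intro i
    refine Fin.lastCases ?_ (fun k => Or.inl (hC.ev_a k)) i
    have h4 : pts5 z a 4 = b 0 * b 1 * (b 2 * b 3) := by
      simp only [pts5, ev5, qa, ha]
      simp [bp, mul_assoc]
    show Cls z (pts5 z a 4) (b 4)
    rw [h4]
    exact F.cls_symm (F.sum 4 0 1 2 3 (by decide))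
  exact ⟨a, hm,
    { frame := hm.frame
      cen := D.cen
      le := D.le
      norm := D.norm
      act := fun c i => F.cls_trans (F.cls_trans (D.cls_conj c.2 (hcls i)) (D.act c i)) (F.cls_symm (hcls _))
      ker := D.ker
      sign := D.sign
      surj := D.surj }⟩

namespace Std

variable {z : G} {Q : Subgroup G} {a : Fin 4 → G} {σ : Cz z →* Perm (Fin 5)} (T : Std z Q a σ)
include T

theorem exact_mul {π ρ : Perm (Fin 5)} {c d : G} (hc : Exact z a π c) (hd : Exact z a ρ d) :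
    Exact z a (π * ρ) (c * d) := fun i => by
  rw [show c * d * pts5 z a i * (c * d)⁻¹ = c * (d * pts5 z a i * d⁻¹) * c⁻¹ by group, hd, hc]; rfl

theorem exact_inv {π : Perm (Fin 5)} {c : G} (hc : Exact z a π c) : Exact z a π⁻¹ c⁻¹ := fun i => by
  have := hc (π⁻¹ i)
  rw [← Perm.mul_apply, mul_inv_cancel, Perm.one_apply] at this
  rw [← this]; group

/-- An exact element acts on codes by the permutation. -/
theorem exact_conj {π : Perm (Fin 5)} {c : G} (hz : Commute c z) (hc : Exact z a π c) (x : QC) :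
    c * ev5 z a x * c⁻¹ = ev5 z a (qperm π x) :=
  T.qm.cliff.conj_ev hz (c := fun i => qa (π i.castSucc)) (fun i => by
    have := hc i.castSucc
    rwa [pts5, pts5, T.qm.cliff.ev_a] at this) x

theorem mul_z {c : G} : c ∈ Cz z → Commute c z := T.data.commC

theorem exists_exact (c : Cz z) : ∃ q ∈ Q, Exact z a (σ c) (q * c) := by
  classical
  have hz := T.mul_z c.2
  set π := σ c with hπ
  have hf : ∀ k : Fin 5, ∃ f : Bool, (c : G) * pts5 z a (π⁻¹ k) * (c : G)⁻¹ =
      ev5 z a (if f then qmul qz (qa k) else qa k) := by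
    intro k
    have := T.data.act c (π⁻¹ k)
    rw [← hπ, ← Perm.mul_apply, mul_inv_cancel, Perm.one_apply] at this
    rcases this with e | e
    · exact ⟨false, e⟩
    · exact ⟨true, by rw [if_pos rfl, ← T.qm.cliff.mul, T.qm.cliff.ev_z]; exact e⟩
  choose f hf using hf
  obtain ⟨x, hx⟩ := signs (π 4) f
  refine ⟨ev5 z a x, T.qm.mem x, ?_⟩
  have hfour : ∀ i : Fin 4, ev5 z a x * c * pts5 z a i.castSucc * (ev5 z a x * c)⁻¹ = pts5 z a (π i.castSucc) := by
    intro i
    have := hx (π i.castSucc) (fun e => (Fin.castSucc_lt_last i).ne (π.injective e))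
    have h2 := hf (π i.castSucc)
    rw [← Perm.mul_apply, inv_mul_cancel, Perm.one_apply] at h2
    rw [show ev5 z a x * c * pts5 z a i.castSucc * (ev5 z a x * c)⁻¹ =
      ev5 z a x * ((c : G) * pts5 z a i.castSucc * (c : G)⁻¹) * (ev5 z a x)⁻¹ by group, h2, T.qm.cliff.inv_ev,
      T.qm.cliff.mul, T.qm.cliff.mul]
    have hcode : ∀ (k : Fin 5) (f : Bool) (x : QC),
        qmul (qmul x (qa k)) (qmul x (qmul x x)) = (if f then qmul qz (qa k) else qa k) →
        qmul (qmul x (if f then qmul qz (qa k) else qa k)) (qmul x (qmul x x)) = qa k := by decide +kernel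
    rw [hcode _ _ _ this]; rfl
  intro i
  refine Fin.lastCases ?_ hfour i
  have hc' : Commute (ev5 z a x * c) z := (T.qm.x2.central _ (T.qm.mem x)).mul_left hz
  show _ * ev5 z a (qa 4) * _ = ev5 z a (qa (π 4))
  rw [T.qm.cliff.conj_ev hc' (c := fun i => qa (π i.castSucc)) (fun i => by
    have := hfour i
    rwa [pts5, pts5, T.qm.cliff.ev_a] at this)]
  congr 1
  exact qperm_qa π (T.data.sign c) 4

theorem sigma_q (c : Cz z) {q : G} (hq : q ∈ Q) :
    σ ⟨q * c, mul_mem (T.data.le hq) c.2⟩ = σ c := by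
  rw [show (⟨q * c, mul_mem (T.data.le hq) c.2⟩ : Cz z) = ⟨q, T.data.le hq⟩ * c from rfl, map_mul,
    (T.data.ker _).2 hq, one_mul]

/-- The exact elements. -/
def hat : Subgroup (Cz z) where
  carrier := {c | Exact z a (σ c) c}
  one_mem' := fun i => by simp
  mul_mem' := fun {c d} hc hd => by
    show Exact z a (σ (c * d)) (c * d)
    rw [map_mul]; exact T.exact_mul hc hd
  inv_mem' := fun {c} hc => by
    show Exact z a (σ c⁻¹) (c⁻¹ : Cz z)
    rw [map_inv]; exact T.exact_inv hc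

theorem hat_surj {π : Perm (Fin 5)} (hπ : Perm.sign π = 1) : ∃ c ∈ T.hat, σ c = π := by
  obtain ⟨c, rfl⟩ := T.data.surj π hπ
  obtain ⟨q, hq, hc⟩ := T.exists_exact c
  refine ⟨⟨q * c, mul_mem (T.data.le hq) c.2⟩, ?_, T.sigma_q c hq⟩
  show Exact z a (σ _) (q * c)
  rw [T.sigma_q c hq]; exact hc

theorem hat_one {c : Cz z} (hc : c ∈ T.hat) (h1 : σ c = 1) : (c : G) = 1 ∨ (c : G) = z := by
  have hq := (T.data.ker c).1 h1
  refine T.qm.x2.cen _ hq fun b hb => ?_
  obtain ⟨y, rfl⟩ := T.qm.surj b hb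
  have := T.exact_conj (π := 1) (T.mul_z c.2) (fun i => by simpa [h1] using (hc : Exact z a (σ c) c) i) y
  rw [qperm_one] at this
  exact (mul_inv_eq_iff_eq_mul.1 this).symm

theorem hat_tau {y : G} (hy : Outer z Q y) {c : Cz z} (hc : c ∈ T.hat) (hσ : σ c = tau1) :
    (c : G) * c = 1 := by
  obtain ⟨d, hd, ed⟩ := T.data.to_std hy.1 (by rw [hy.2.1]; exact one_mem _) hy.2.2
  set y' := d * y * d⁻¹ with hy'
  have hyy : y' * y' = 1 := (T.data.outer_conj' hy hd).2.1
  have hcc : (c : G) * c = 1 ∨ (c : G) * c = z := T.hat_one (mul_mem hc hc) (by rw [map_mul, hσ]; decide +kernel)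
  refine hcc.resolve_right fun hcz => ?_
  have hker : y' * (c : G)⁻¹ ∈ Q :=
    (T.data.ker (⟨y', mul_mem (mul_mem hd hy.1) (inv_mem hd)⟩ * c⁻¹)).1 (by rw [map_mul, map_inv, ed, hσ, mul_inv_cancel])
  obtain ⟨x, hx⟩ := T.qm.surj _ hker
  have h1 : ev5 z a x * ((c : G) * ev5 z a x * (c : G)⁻¹) * ((c : G) * c) = 1 := by
    rw [hx, ← hyy]; group
  rw [hcz, T.exact_conj (T.mul_z c.2) (hσ ▸ hc : Exact z a tau1 c), qperm_tau.1, T.qm.cliff.mul] at h1
  refine qv_sq x (T.qm.inj ?_)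
  rw [T.qm.cliff.ev_z]
  exact (eq_inv_of_mul_eq_one_left h1).trans (inv_eq_of_mul_eq_one_right T.qm.cliff.zz)

theorem hat_sq {y : G} (hy : Outer z Q y) {c : Cz z} (hc : c ∈ T.hat) (hσ : σ c * σ c = 1) :
    (c : G) * c = 1 := by
  by_cases h1 : σ c = 1
  · rcases T.hat_one hc h1 with e | e <;> rw [e]
    · exact one_mul 1
    · exact T.qm.cliff.zz
  obtain ⟨ρ, hρ, e⟩ := perm_std _ (T.data.sign _) hσ h1
  obtain ⟨d, hd, rfl⟩ := T.hat_surj hρ
  have := T.hat_tau hy (mul_mem (mul_mem hd hc) (inv_mem hd)) (by rw [map_mul, map_mul, map_inv]; exact e)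
  have h2 : (d : G) * ((c : G) * c) * (d : G)⁻¹ = 1 := by
    rw [← this]; simp [mul_assoc]
  exact conj_eq_one_iff.1 h2

theorem hat_comm {y : G} (hy : Outer z Q y) {c d : Cz z} (hc : c ∈ T.hat) (hd : d ∈ T.hat)
    (hcV : σ c ∈ vFour) (hdV : σ d ∈ vFour) : c * d = d * c := by
  have e1 := T.hat_sq hy hc (vFour_facts hcV).1
  have e2 := T.hat_sq hy hd (vFour_facts hdV).1
  have e3 := T.hat_sq hy (mul_mem hc hd) (by rw [map_mul]; exact (vFour_facts (mul_mem hcV hdV)).1)
  refine Subtype.ext ?_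
  calc (c : G) * d = (c : G) * ((c * d : Cz z) * (c * d : Cz z)) * d := by rw [e3, mul_one]
    _ = ((c : G) * c) * (d * c) * ((d : G) * d) := by simp only [coe_mul]; group
    _ = (d : G) * c := by rw [e1, e2, one_mul, mul_one]

/-- A Sylow subgroup of the centraliser. -/
theorem exists_model {y : G} (hy : Outer z Q y) : ∃ (S : Subgroup G) (v w : G),
    S ≤ Cz z ∧ Model S z a v w := by
  obtain ⟨v, hv, hσv⟩ := T.hat_surj (π := tau1) (by decide)
  obtain ⟨w, hw, hσw⟩ := T.hat_surj (π := tau2) (by decide)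
  have hvV : σ v ∈ vFour := hσv ▸ Or.inr (Or.inl rfl)
  have hwV : σ w ∈ vFour := hσw ▸ Or.inr (Or.inr (Or.inl rfl))
  have hvv := T.hat_sq hy hv (vFour_facts hvV).1
  have hww := T.hat_sq hy hw (vFour_facts hwV).1
  have hvw : Commute (v : G) w := congrArg Subtype.val (T.hat_comm hy hv hw hvV hwV)
  set S : Subgroup G := (vFour.comap σ).map (Cz z).subtype with hS
  have hva : ∀ i : Fin 4, (v : G) * a i * (v : G)⁻¹ = a (![1, 0, 3, 2] i) := by
    intro i
    have := (hσv ▸ hv : Exact z a tau1 v) i.castSucc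
    rwa [pts5, pts5, T.qm.cliff.ev_a, show tau1 i.castSucc = (![1, 0, 3, 2] i : Fin 4).castSucc by
      clear this; revert i; decide +kernel, T.qm.cliff.ev_a] at this
  have hwa : ∀ i : Fin 4, (w : G) * a i * (w : G)⁻¹ = a (![2, 3, 0, 1] i) := by
    intro i
    have := (hσw ▸ hw : Exact z a tau2 w) i.castSucc
    rwa [pts5, pts5, T.qm.cliff.ev_a, show tau2 i.castSucc = (![2, 3, 0, 1] i : Fin 4).castSucc by
      clear this; revert i; decide +kernel, T.qm.cliff.ev_a] at this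
  let pr : Bool → Bool → Cz z := fun p r => bp v p * bp w r
  have hpr : ∀ p r, ((pr p r : Cz z) : G) = bp (v : G) p * bp (w : G) r := fun p r => by
    cases p <;> cases r <;> simp [pr, bp]
  have hσpr : ∀ p r, σ (pr p r) = bp tau1 p * bp tau2 r := fun p r => by
    cases p <;> cases r <;> simp [pr, bp, hσv, hσw]
  have hmem : ∀ x, ev7 z a (v : G) w x ∈ S := by
    rintro ⟨x, p, r⟩
    refine ⟨⟨ev5 z a x, T.data.le (T.qm.mem x)⟩ * pr p r, ?_, by simp [ev7, hpr]⟩
    show σ _ ∈ vFour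
    rw [map_mul, (T.data.ker _).2 (T.qm.mem x), one_mul, hσpr]
    exact mul_mem (bp_mem (Or.inr (Or.inl rfl)) p) (bp_mem (Or.inr (Or.inr (Or.inl rfl))) r)
  have hsurj : ∀ s ∈ S, ∃ x, ev7 z a (v : G) w x = s := by
    rintro _ ⟨c, hc, rfl⟩
    obtain ⟨p, r, hπ⟩ : ∃ p r, σ c = bp tau1 p * bp tau2 r := by
      rcases (hc : σ c ∈ vFour) with e | e | e | e <;> rw [e]
      exacts [⟨false, false, by simp [bp]⟩, ⟨true, false, by simp [bp]⟩, ⟨false, true, by simp [bp]⟩,
        ⟨true, true, by simp [bp]⟩]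
    have hq : ((c * (pr p r)⁻¹ : Cz z) : G) ∈ Q := (T.data.ker _).1 (by
      rw [map_mul, map_inv, hσpr, hπ, mul_inv_cancel])
    obtain ⟨x, hx⟩ := T.qm.surj _ hq
    refine ⟨(x, p, r), ?_⟩
    show ev5 z a x * (bp (v : G) p * bp (w : G) r) = c
    rw [hx, ← hpr]; simp
  have hinj : Function.Injective (ev7 z a (v : G) w) := by
    rintro ⟨x, p, r⟩ ⟨y, p', r'⟩ e
    have e' : (⟨ev5 z a x, T.data.le (T.qm.mem x)⟩ : Cz z) * pr p r =
        ⟨ev5 z a y, T.data.le (T.qm.mem y)⟩ * pr p' r' := Subtype.ext (by simpa [hpr, ev7] using e)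
    have e2 := congrArg σ e'
    rw [map_mul σ ⟨_, T.data.le (T.qm.mem x)⟩, map_mul σ ⟨_, T.data.le (T.qm.mem y)⟩,
      (T.data.ker ⟨_, T.data.le (T.qm.mem x)⟩).2 (T.qm.mem x),
      (T.data.ker ⟨_, T.data.le (T.qm.mem y)⟩).2 (T.qm.mem y), hσpr, hσpr] at e2
    have hcode : ∀ p r p' r' : Bool,
        1 * (bp tau1 p * bp tau2 r) = 1 * (bp tau1 p' * bp tau2 r') → p = p' ∧ r = r' := by decide +kernel
    obtain ⟨rfl, rfl⟩ := hcode _ _ _ _ e2
    rw [T.qm.inj (mul_right_cancel (show ev5 z a x * (bp (v : G) p * bp (w : G) r) = ev5 z a y * _ from e))]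
  refine ⟨S, v, w, map_subtype_le _, ⟨T.qm.cliff, (T.mul_z v.2).symm, (T.mul_z w.2).symm, hvv, hww, hvw, hva, hwa,
    hmem, hsurj, ?_⟩⟩
  rw [← Nat.card_congr (Equiv.ofBijective (fun x : SC => (⟨ev7 z a (v : G) w x, hmem x⟩ : S))
    ⟨fun x y e => hinj (congrArg Subtype.val e), fun s => (hsurj s s.2).imp fun x hx => Subtype.ext hx⟩),
    Nat.card_eq_fintype_card]
  rfl

open scoped IsMulCommutative in
/-- A complement. -/
theorem exists_complement {y : G} (hy : Outer z Q y) : ∃ L : Subgroup (Cz z), L ≤ T.hat ∧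
    (∀ c ∈ L, σ c = 1 → c = 1) ∧ ∀ π, Perm.sign π = 1 → ∃ c ∈ L, σ c = π := by
  classical
  let σA : T.hat →* alternatingGroup (Fin 5) :=
    (σ.comp T.hat.subtype).codRestrict _ fun c => Perm.mem_alternatingGroup.2 (T.data.sign _)
  have hσA : Function.Surjective σA := fun ⟨π, hπ⟩ => by
    obtain ⟨c, hc, e⟩ := T.hat_surj (Perm.mem_alternatingGroup.1 hπ)
    exact ⟨⟨c, hc⟩, Subtype.ext e⟩
  set X : Subgroup (alternatingGroup (Fin 5)) := vFour.comap (alternatingGroup (Fin 5)).subtype with hX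
  set H : Subgroup T.hat := X.comap σA with hH
  haveI : IsMulCommutative H := ⟨⟨fun c d => Subtype.ext (Subtype.ext
    (T.hat_comm hy c.1.2 d.1.2 c.2 d.2))⟩⟩
  have hzc : (⟨z, mem_Cz.2 (Commute.refl z)⟩ : Cz z) ∈ T.hat := by
    intro i
    rw [(T.data.ker _).2 T.qm.x2.mem]
    show z * ev5 z a (qa i) * z⁻¹ = ev5 z a (qa i)
    rw [← (T.qm.x2.central _ (T.qm.mem (qa i))).eq, mul_inv_cancel_right]
  set zh : T.hat := ⟨_, hzc⟩ with hzh
  have hcen : ∀ g : T.hat, g * zh = zh * g := fun g => Subtype.ext (Subtype.ext (T.mul_z g.1.2).eq)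
  have hidx : H.index = 15 := by
    rw [hH, index_comap_of_surjective _ hσA]
    have h1 := X.card_mul_index
    have h2 : Nat.card X = 4 := by
      refine (Nat.card_congr (subgroupOfEquivOfLe (H := vFour) (K := alternatingGroup (Fin 5))
        fun π hπ => Perm.mem_alternatingGroup.2 (vFour_facts hπ).2).toEquiv).trans ?_
      have : (vFour : Set (Perm (Fin 5))) = ({1, tau1, tau2, tau1 * tau2} : Finset (Perm (Fin 5))) := by
        ext π; simp [vFour]
      rw [← SetLike.coe_sort_coe, this, Nat.card_coe_set_eq, Set.ncard_coe_finset]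
      decide +kernel
    rw [h2, show Nat.card (alternatingGroup (Fin 5)) = 60 by
      rw [nat_card_alternatingGroup, Nat.card_fin]; rfl] at h1
    omega
  set τ : T.hat →* H := MonoidHom.transfer (MonoidHom.id H)
  have hτz : τ zh ≠ 1 := by
    intro e
    rw [MonoidHom.transfer_eq_pow _ _ (fun k g _ => by
      rw [mul_assoc, ← (show Commute g (zh ^ k) from (show Commute g zh from hcen g).pow_right k).eq,
        inv_mul_cancel_left]), Subtype.ext_iff] at e
    simp only [MonoidHom.id_apply, coe_one] at e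
    rw [hidx] at e
    have : z ^ 15 = 1 := congrArg (fun g : T.hat => ((g : Cz z) : G)) e
    rw [show 15 = 2 * 7 + 1 by rfl, pow_succ, pow_mul, pow_two, T.qm.cliff.zz, one_pow, one_mul] at this
    exact T.qm.x2.ne this
  have hk : ∀ c : T.hat, σA c = 1 → c = 1 ∨ c = zh := by
    intro c hc
    rcases T.hat_one c.2 (congrArg Subtype.val hc) with e | e
    · exact Or.inl (Subtype.ext (Subtype.ext e))
    · exact Or.inr (Subtype.ext (Subtype.ext e))
  haveI := alternatingGroup.isSimpleGroup (α := Fin 5) (by simp)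
  haveI : (τ.ker.map σA).Normal := Subgroup.Normal.map inferInstance _ hσA
  have htop : τ.ker.map σA = ⊤ := by
    refine ((inferInstance : (τ.ker.map σA).Normal).eq_bot_or_eq_top).resolve_left fun hb => ?_
    obtain ⟨p, q, hpq⟩ : ∃ p q : alternatingGroup (Fin 5), p * q ≠ q * p := by decide +kernel
    obtain ⟨c, rfl⟩ := hσA p
    obtain ⟨d, rfl⟩ := hσA q
    refine hpq ?_
    have : σA (c * d * (d * c)⁻¹) ∈ τ.ker.map σA := mem_map_of_mem _ (by
      rw [MonoidHom.mem_ker, map_mul, map_inv, map_mul, map_mul, mul_comm (τ c), mul_inv_cancel])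
    rw [hb, mem_bot, map_mul, map_inv, mul_inv_eq_one] at this
    simpa [map_mul] using this
  refine ⟨τ.ker.map T.hat.subtype, map_subtype_le _, ?_, fun π hπ => ?_⟩
  · rintro _ ⟨c, hc, rfl⟩ h1
    rcases hk c (Subtype.ext h1) with rfl | rfl
    · rfl
    · exact absurd (MonoidHom.mem_ker.1 hc) hτz
  · obtain ⟨c, hc, e⟩ := (htop ▸ mem_top (⟨π, Perm.mem_alternatingGroup.2 hπ⟩ : alternatingGroup (Fin 5)))
    exact ⟨c, mem_map_of_mem _ hc, congrArg Subtype.val e⟩

theorem exists_section {y : G} (hy : Outer z Q y) : ∃ l : alternatingGroup (Fin 5) →* Cz z,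
    (∀ π : alternatingGroup (Fin 5), σ (l π) = π) ∧ ∀ π : alternatingGroup (Fin 5), Exact z a π (l π) := by
  obtain ⟨L, hL, h1, hs⟩ := T.exists_complement hy
  have hs' : ∀ π : alternatingGroup (Fin 5), ∃ c ∈ L, σ c = π := fun π => hs π (Perm.mem_alternatingGroup.1 π.2)
  choose l hl hσl using hs'
  have huniq : ∀ {c d : Cz z}, c ∈ L → d ∈ L → σ c = σ d → c = d := fun {c d} hc hd e =>
    mul_inv_eq_one.1 (h1 _ (mul_mem hc (inv_mem hd)) (by rw [map_mul, map_inv, e, mul_inv_cancel]))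
  refine ⟨MonoidHom.mk' l fun π ρ => huniq (hl _) (mul_mem (hl π) (hl ρ)) (by rw [map_mul, hσl, hσl, hσl]; rfl),
    hσl, fun π => ?_⟩
  have h := hL (hl π)
  show Exact z a π (l π)
  rw [← hσl π]
  exact h

omit T in
theorem section_spec (T : Std z Q a σ) (l : alternatingGroup (Fin 5) →* Cz z)
    (hl : ∀ π : alternatingGroup (Fin 5), σ (l π) = π) (he : ∀ π : alternatingGroup (Fin 5), Exact z a π (l π)) :
    Function.Bijective (fun p : QC × alternatingGroup (Fin 5) =>
      (⟨ev5 z a p.1, T.data.le (T.qm.mem p.1)⟩ * l p.2 : Cz z)) ∧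
    ∀ p q : QC × alternatingGroup (Fin 5),
      ((⟨ev5 z a p.1, T.data.le (T.qm.mem p.1)⟩ * l p.2) * (⟨ev5 z a q.1, T.data.le (T.qm.mem q.1)⟩ * l q.2) : Cz z) =
        ⟨ev5 z a (qmul p.1 (qperm p.2 q.1)), T.data.le (T.qm.mem _)⟩ * l (p.2 * q.2) := by
  refine ⟨⟨?_, fun c => ?_⟩, fun p q => Subtype.ext ?_⟩
  · rintro ⟨x, π⟩ ⟨x', π'⟩ e
    have e1 := congrArg σ e
    simp only [map_mul] at e1
    rw [(T.data.ker ⟨_, T.data.le (T.qm.mem x)⟩).2 (T.qm.mem x), (T.data.ker ⟨_, T.data.le (T.qm.mem x')⟩).2 (T.qm.mem x'), one_mul, one_mul, hl, hl] at e1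
    obtain rfl : π = π' := Subtype.ext e1
    rw [T.qm.inj (congrArg Subtype.val (mul_right_cancel e))]
  · set π : alternatingGroup (Fin 5) := ⟨σ c, Perm.mem_alternatingGroup.2 (T.data.sign c)⟩
    have hq : ((c * (l π)⁻¹ : Cz z) : G) ∈ Q :=
      (T.data.ker _).1 (by rw [map_mul, map_inv, hl, mul_inv_cancel])
    obtain ⟨x, hx⟩ := T.qm.surj _ hq
    exact ⟨(x, π), Subtype.ext (by simp [hx])⟩
  · simp only [coe_mul, map_mul]
    have := T.exact_conj (T.mul_z (l p.2).2) (he p.2) q.1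
    rw [← T.qm.cliff.mul, ← this]; group

end Std

/-- Uniqueness of the centraliser. -/
theorem cent_iso {G₁ G₂ : Type*} [Group G₁] [Finite G₁] [Group G₂] [Finite G₂]
    {z₁ : G₁} {Q₁ : Subgroup G₁} {b₁ : Fin 5 → G₁} {σ₁ : Cz z₁ →* Perm (Fin 5)} (D₁ : Data z₁ Q₁ b₁ σ₁)
    {y₁ : G₁} (hy₁ : Outer z₁ Q₁ y₁)
    {z₂ : G₂} {Q₂ : Subgroup G₂} {b₂ : Fin 5 → G₂} {σ₂ : Cz z₂ →* Perm (Fin 5)} (D₂ : Data z₂ Q₂ b₂ σ₂)
    {y₂ : G₂} (hy₂ : Outer z₂ Q₂ y₂) : Nonempty (Cz z₁ ≃* Cz z₂) := by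
  classical
  obtain ⟨a₁, T₁⟩ := exists_std D₁
  obtain ⟨a₂, T₂⟩ := exists_std D₂
  obtain ⟨l₁, hl₁, he₁⟩ := T₁.exists_section hy₁
  obtain ⟨l₂, hl₂, he₂⟩ := T₂.exists_section hy₂
  obtain ⟨hb₁, hm₁⟩ := T₁.section_spec l₁ hl₁ he₁
  obtain ⟨hb₂, hm₂⟩ := T₂.section_spec l₂ hl₂ he₂
  let e₁ := Equiv.ofBijective _ hb₁
  let e₂ := Equiv.ofBijective _ hb₂
  refine ⟨{ e₁.symm.trans e₂ with map_mul' := fun c d => ?_ }⟩
  obtain ⟨p, rfl⟩ := e₁.surjective c
  obtain ⟨q, rfl⟩ := e₁.surjective d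
  have h : e₁ p * e₁ q = e₁ (qmul p.1 (qperm p.2 q.1), p.2 * q.2) := hm₁ p q
  show e₂ (e₁.symm (e₁ p * e₁ q)) = e₂ (e₁.symm (e₁ p)) * e₂ (e₁.symm (e₁ q))
  rw [h, e₁.symm_apply_apply, e₁.symm_apply_apply, e₁.symm_apply_apply]
  exact (hm₂ p q).symm

end Cfsg.Lib.JTwoSyl
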